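import Groth.Agent.TorsGlueLib.Descent

/-!
# Glueing trivial affine schemes along an automorphism over the overlap
-/

set_option autoImplicit false
set_option linter.style.haveILetI false
set_option backward.isDefEq.respectTransparency false
universe u

open CategoryTheory CategoryTheory.Limits AlgebraicGeometry TensorProduct
open MonoidalCategory CartesianMonoidalCategory

noncomputable section

namespace TorsGlueLib

variable {R R' : Type u} [CommRing R] [CommRing R'] [Algebra R R'] {f : R}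

theorem exists_descent_sp (hp : EtGlue.IsGlueingPair R R' f) (O : Type u) [CommRing O] [Algebra R O]
    [Module.Flat R O] [Algebra.FinitePresentation R O]
    (τ : sp R O ⊗ sp R (Localization.Away (algebraMap R R' f)) ≅ sp R O ⊗ sp R (Localization.Away (algebraMap R R' f)))
    (hτ : τ.hom ≫ snd _ _ = snd _ _) :
    ∃ (P : Over (Spec (CommRingCat.of R))) (_ : IsAffine P.left) (_ : Flat P.hom)
      (_ : LocallyOfFinitePresentation P.hom)
      (q₁ : sp R O ⊗ sp R (Localization.Away f) ⟶ P) (q₂ : sp R O ⊗ sp R R' ⟶ P),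
      IsIso (lift q₁ (snd _ _)) ∧ IsIso (lift q₂ (snd _ _)) ∧
      (sp R O ◁ spMap (uA R R' f)) ≫ q₁ = τ.hom ≫ (sp R O ◁ spMap (uB R R' f)) ≫ q₂ := by
  let τ' := (spT O (Localization.Away (algebraMap R R' f))).symm ≪≫ τ ≪≫ spT O _
  obtain ⟨θ, hθ⟩ := exists_spMap τ'.hom
  obtain ⟨θi, hθi⟩ := exists_spMap τ'.inv
  let Θ := AlgEquiv.ofAlgHom θ θi
    (spMap_injective (by rw [← spMap_comp, hθi, hθ, Iso.hom_inv_id, spMap_id]))
    (spMap_injective (by rw [← spMap_comp, hθ, hθi, Iso.inv_hom_id, spMap_id]))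
  have hc : θ.comp Algebra.TensorProduct.includeLeft = Algebra.TensorProduct.includeLeft := by
    refine spMap_injective ?_
    rw [← spMap_comp, hθ]
    simp only [τ', Iso.trans_hom, Iso.symm_hom, Category.assoc, spT_snd, hτ]
    rw [← spT_snd O, Iso.inv_hom_id_assoc]
  obtain ⟨A, _, _, _, _, ε₁, ε₂, h1, h2, hcomp⟩ := descent_affine hp O Θ (fun c => DFunLike.congr_fun hc c)
  refine ⟨sp R A, inferInstanceAs (IsAffine (Spec _)), ?_, ?_, spPair O _ ε₁, spPair O _ ε₂,
    isIso_lift_spPair O _ ε₁ h1, isIso_lift_spPair O _ ε₂ h2, ?_⟩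
  · exact (HasRingHomProperty.Spec_iff (P := @Flat)).mpr (RingHom.flat_algebraMap_iff.mpr inferInstance)
  · exact (HasRingHomProperty.Spec_iff (P := @LocallyOfFinitePresentation)).mpr
      (RingHom.finitePresentation_algebraMap.mpr inferInstance)
  · have hcomp' := congrArg (fun v => (spT O _).hom ≫ spMap v) hcomp
    simp only [← spMap_comp] at hcomp'
    rw [show Θ.toAlgHom = θ from AlgHom.ext fun _ => rfl, hθ] at hcomp'
    simp only [τ', Iso.trans_hom, Iso.symm_hom, Category.assoc, Iso.hom_inv_id_assoc,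
      ← reassoc_of% whiskerLeft_spT] at hcomp'
    exact hcomp'.symm

/-- Glueing trivial affine objects along an automorphism over the overlap. -/
theorem exists_descent (hp : EtGlue.IsGlueingPair R R' f) (G : Over (Spec (CommRingCat.of R)))
    [IsAffine G.left] [Flat G.hom] [LocallyOfFinitePresentation G.hom]
    (τ : G ⊗ sp R (Localization.Away (algebraMap R R' f)) ≅ G ⊗ sp R (Localization.Away (algebraMap R R' f)))
    (hτ : τ.hom ≫ snd _ _ = snd _ _) :
    ∃ (P : Over (Spec (CommRingCat.of R))) (_ : IsAffine P.left) (_ : Flat P.hom)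
      (_ : LocallyOfFinitePresentation P.hom)
      (q₁ : G ⊗ sp R (Localization.Away f) ⟶ P) (q₂ : G ⊗ sp R R' ⟶ P),
      IsIso (lift q₁ (snd _ _)) ∧ IsIso (lift q₂ (snd _ _)) ∧
      (G ◁ spMap (uA R R' f)) ≫ q₁ = τ.hom ≫ (G ◁ spMap (uB R R' f)) ≫ q₂ := by
  obtain ⟨φ, hφ⟩ := Spec.map_surjective (G.left.isoSpec.inv ≫ G.hom)
  letI : Algebra R Γ(G.left, ⊤) := φ.hom.toAlgebra
  haveI : Module.Flat R Γ(G.left, ⊤) := by
    have h1 : Flat (Spec.map φ) := by rw [hφ]; exact MorphismProperty.comp_mem _ _ _ inferInstance ‹Flat G.hom›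
    exact (HasRingHomProperty.Spec_iff (P := @Flat)).mp h1
  haveI : Algebra.FinitePresentation R Γ(G.left, ⊤) := by
    have h1 : LocallyOfFinitePresentation (Spec.map φ) := by
      rw [hφ]; exact MorphismProperty.comp_mem _ _ _ inferInstance ‹LocallyOfFinitePresentation G.hom›
    exact (HasRingHomProperty.Spec_iff (P := @LocallyOfFinitePresentation)).mp h1
  let e : sp R Γ(G.left, ⊤) ≅ G := Over.isoMk G.left.isoSpec.symm hφ.symm
  obtain ⟨P, hP1, hP2, hP3, q₁, q₂, h1, h2, h3⟩ := exists_descent_sp hp Γ(G.left, ⊤)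
    (whiskerRightIso e _ ≪≫ τ ≪≫ (whiskerRightIso e _).symm) (by simp [hτ])
  refine ⟨P, hP1, hP2, hP3, (e.inv ▷ _) ≫ q₁, (e.inv ▷ _) ≫ q₂, ?_, ?_, ?_⟩
  · have : lift ((e.inv ▷ sp R (Localization.Away f)) ≫ q₁) (snd G _) = (e.inv ▷ _) ≫ lift q₁ (snd _ _) := by
      ext <;> simp
    rw [this]; infer_instance
  · have : lift ((e.inv ▷ sp R R') ≫ q₂) (snd G _) = (e.inv ▷ _) ≫ lift q₂ (snd _ _) := by
      ext <;> simp
    rw [this]; infer_instance
  · rw [whisker_exchange_assoc, whisker_exchange_assoc, h3]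
    simp

end TorsGlueLib
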