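import Groth.Agent.TorsGlueLib.Torsor
import Groth.Agent.TorsGlueLib.DescentScheme
import Mathlib.CategoryTheory.Monoidal.Cartesian.Grp

/-!
# The torsor glued from two trivial torsors along a point of the group on the overlap
-/

set_option autoImplicit false
set_option linter.style.haveILetI false
set_option backward.isDefEq.respectTransparency false
universe u

open CategoryTheory CategoryTheory.Limits AlgebraicGeometry MonoidalCategory CartesianMonoidalCategory
open NonAbH1 TorsExtLib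
open scoped MonObj

noncomputable section

namespace TorsGlueLib

section general

variable {C : Type*} [Category C] [CartesianMonoidalCategory C] {G P S : C}

/-- The coordinate in `G` of a point of a trivialised object. -/
def xc (q : G ⊗ S ⟶ P) [IsIso (lift q (snd G S))] : P ⊗ S ⟶ G := inv (lift q (snd G S)) ≫ fst G S

theorem xc_spec (q : G ⊗ S ⟶ P) [IsIso (lift q (snd G S))] {T : C} (p : T ⟶ P) (c : T ⟶ S) :
    lift (lift p c ≫ xc q) c ≫ q = p := by
  have h : inv (lift q (snd G S)) ≫ snd G S = snd P S := by rw [IsIso.inv_comp_eq, lift_snd]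
  have h1 : lift (lift p c ≫ xc q) c = lift p c ≫ inv (lift q (snd G S)) := by
    apply CartesianMonoidalCategory.hom_ext <;> simp [xc, h]
  have h2 : inv (lift q (snd G S)) ≫ q = fst P S := by rw [IsIso.inv_comp_eq, lift_fst]
  rw [h1, Category.assoc, h2, lift_fst]

theorem xc_unique (q : G ⊗ S ⟶ P) [IsIso (lift q (snd G S))] {T : C} {p : T ⟶ P} {c : T ⟶ S} {g : T ⟶ G}
    (h : lift g c ≫ q = p) : lift p c ≫ xc q = g := by
  have h1 : lift p c = lift g c ≫ lift q (snd G S) := by rw [comp_lift, lift_snd, h]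
  rw [h1, xc, Category.assoc, IsIso.hom_inv_id_assoc, lift_fst]

end general

variable {A C₁ C₂ C₃ : Type u} [CommRing A] [CommRing C₁] [CommRing C₂] [CommRing C₃]
  [Algebra A C₁] [Algebra A C₂] [Algebra A C₃] {u₁ : C₁ →ₐ[A] C₃} {u₂ : C₂ →ₐ[A] C₃}

theorem isAffine_tensor (X Y : Over (Spec (CommRingCat.of A))) [IsAffine X.left] [IsAffine Y.left] :
    IsAffine (X ⊗ Y).left :=
  inferInstanceAs (IsAffine (pullback X.hom Y.hom))

theorem flat_tensor (X Y : Over (Spec (CommRingCat.of A))) [Flat X.hom] [Flat Y.hom] : Flat (X ⊗ Y).hom := by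
  haveI : Flat (fst X Y).left := property_fst (Q := @Flat) X Y ‹_›
  rw [← Over.w (fst X Y)]
  exact MorphismProperty.comp_mem _ _ _ inferInstance ‹Flat X.hom›

variable {G P : Over (Spec (CommRingCat.of A))} [GrpObj G]

/-- The torsor structure on an object glued from two trivial torsors along `gc`. -/
theorem exists_torsor (h : GlueSq u₁ u₂) [IsAffine G.left] [Flat G.hom] [IsAffine P.left] [Flat P.hom]
    [LocallyOfFinitePresentation P.hom] (gc : sp A C₃ ⟶ G)
    (q₁ : G ⊗ sp A C₁ ⟶ P) (q₂ : G ⊗ sp A C₂ ⟶ P)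
    [IsIso (lift q₁ (snd G (sp A C₁)))] [IsIso (lift q₂ (snd G (sp A C₂)))]
    (hc : (G ◁ spMap u₁) ≫ q₁ = lift (fst G (sp A C₃) * (snd G (sp A C₃) ≫ gc)) (snd G (sp A C₃)) ≫ (G ◁ spMap u₂) ≫ q₂) :
    (∃ a : AlgGrp.Action G P, IsTorsorFor Scheme.fppfPrecoverage a) ∧
      ∀ s : 𝟙_ (Over (Spec (CommRingCat.of A))) ⟶ P, ∃ (x₁ : sp A C₁ ⟶ G) (x₂ : sp A C₂ ⟶ G),
        spMap u₂ ≫ x₂ = (spMap u₁ ≫ x₁) * gc := by
  haveI := isAffine_tensor G P
  haveI := flat_tensor G P
  haveI := isAffine_tensor P P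
  haveI := flat_tensor P P
  -- change of coordinate on the overlap
  have hx : ∀ {T : Over (Spec (CommRingCat.of A))} (p : T ⟶ P) (c : T ⟶ sp A C₃),
      lift p (c ≫ spMap u₂) ≫ xc q₂ = (lift p (c ≫ spMap u₁) ≫ xc q₁) * (c ≫ gc) := by
    intro T p c
    refine xc_unique q₂ ?_
    have h1 := congrArg (fun k => lift (lift p (c ≫ spMap u₁) ≫ xc q₁) c ≫ k) hc
    simp only [lift_whiskerLeft_assoc, comp_lift_assoc, MonObj.comp_mul, lift_fst, lift_snd, lift_snd_assoc,
      xc_spec] at h1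
    exact h1.symm
  let act₁ : (G ⊗ P) ⊗ sp A C₁ ⟶ P :=
    lift ((fst _ _ ≫ fst G P) * (lift (fst _ _ ≫ snd G P) (snd _ _) ≫ xc q₁)) (snd _ _) ≫ q₁
  let act₂ : (G ⊗ P) ⊗ sp A C₂ ⟶ P :=
    lift ((fst _ _ ≫ fst G P) * (lift (fst _ _ ≫ snd G P) (snd _ _) ≫ xc q₂)) (snd _ _) ≫ q₂
  have ev : ∀ {T : Over (Spec (CommRingCat.of A))} (g : T ⟶ G) (c : T ⟶ sp A C₃),
      lift g (c ≫ spMap u₁) ≫ q₁ = lift (g * (c ≫ gc)) (c ≫ spMap u₂) ≫ q₂ := by
    intro T g c
    have h1 := congrArg (fun k => lift g c ≫ k) hc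
    simpa only [lift_whiskerLeft_assoc, comp_lift_assoc, MonObj.comp_mul, lift_fst, lift_snd, lift_snd_assoc] using h1
  obtain ⟨act, hact₁, hact₂⟩ := exists_hom_qa h act₁ act₂ (by
    simp only [act₁, act₂, comp_lift_assoc, MonObj.comp_mul, whiskerLeft_fst_assoc, whiskerLeft_snd, comp_lift]
    rw [ev, hx, mul_assoc])
  have hA₁ : ∀ {T : Over (Spec (CommRingCat.of A))} (g : T ⟶ G) (p : T ⟶ P) (c : T ⟶ sp A C₁),
      lift g p ≫ act = lift (g * (lift p c ≫ xc q₁)) c ≫ q₁ := by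
    intro T g p c
    have h1 := congrArg (fun k => lift (lift g p) c ≫ k) hact₁
    simpa only [act₁, lift_fst_assoc, comp_lift_assoc, MonObj.comp_mul, comp_lift, lift_fst, lift_snd] using h1
  have hA₂ : ∀ {T : Over (Spec (CommRingCat.of A))} (g : T ⟶ G) (p : T ⟶ P) (c : T ⟶ sp A C₂),
      lift g p ≫ act = lift (g * (lift p c ≫ xc q₂)) c ≫ q₂ := by
    intro T g p c
    have h1 := congrArg (fun k => lift (lift g p) c ≫ k) hact₂
    simpa only [act₂, lift_fst_assoc, comp_lift_assoc, MonObj.comp_mul, comp_lift, lift_fst, lift_snd] using h1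
  have hone : ∀ {T : Over (Spec (CommRingCat.of A))} [Flat T.hom] (p : T ⟶ P), lift 1 p ≫ act = p := by
    intro T _ p
    refine hom_ext_qa h ?_ ?_
    · rw [comp_lift_assoc, MonObj.comp_one, hA₁ _ _ (snd T (sp A C₁)), one_mul, xc_spec]
    · rw [comp_lift_assoc, MonObj.comp_one, hA₂ _ _ (snd T (sp A C₂)), one_mul, xc_spec]
  have hmul : ∀ {T : Over (Spec (CommRingCat.of A))} [Flat T.hom] (g g' : T ⟶ G) (p : T ⟶ P),
      lift (g * g') p ≫ act = lift g (lift g' p ≫ act) ≫ act := by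
    intro T _ g g' p
    refine hom_ext_qa h ?_ ?_
    · simp only [comp_lift_assoc, MonObj.comp_mul]
      rw [hA₁ (fst T _ ≫ g') _ (snd T (sp A C₁)), hA₁ (_ * _) _ (snd T (sp A C₁)), hA₁ _ _ (snd T (sp A C₁))]
      rw [xc_unique q₁ rfl, mul_assoc]
    · simp only [comp_lift_assoc, MonObj.comp_mul]
      rw [hA₂ (fst T _ ≫ g') _ (snd T (sp A C₂)), hA₂ (_ * _) _ (snd T (sp A C₂)), hA₂ _ _ (snd T (sp A C₂))]
      rw [xc_unique q₂ rfl, mul_assoc]
  haveI := flat_tensor G G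
  haveI : Flat ((G ⊗ G) ⊗ P).hom := flat_tensor (G ⊗ G) P
  let a : AlgGrp.Action G P :=
    { act := act
      one_act := by
        haveI : Flat (𝟙_ (Over (Spec (CommRingCat.of A))) ⊗ P).hom := by
          rw [← Over.w (λ_ P).hom]
          exact MorphismProperty.comp_mem _ _ _ inferInstance ‹Flat P.hom›
        have h1 : η[G] ▷ P = lift (1 : _ ⟶ G) (snd (𝟙_ (Over (Spec (CommRingCat.of A)))) P) := by
          apply CartesianMonoidalCategory.hom_ext
          · rw [whiskerRight_fst, lift_fst, MonObj.one_eq_one, MonObj.comp_one]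
          · rw [whiskerRight_snd, lift_snd]
        rw [h1, hone, leftUnitor_hom]
      mul_act := by
        have h1 : μ[G] ▷ P = lift ((fst (G ⊗ G) P ≫ fst G G) * (fst (G ⊗ G) P ≫ snd G G)) (snd (G ⊗ G) P) := by
          apply CartesianMonoidalCategory.hom_ext
          · rw [whiskerRight_fst, lift_fst, ← MonObj.comp_mul, MonObj.mul_eq_mul]
          · rw [whiskerRight_snd, lift_snd]
        have h2 : (α_ G G P).hom ≫ (G ◁ act) = lift (fst (G ⊗ G) P ≫ fst G G)
            (lift (fst (G ⊗ G) P ≫ snd G G) (snd (G ⊗ G) P) ≫ act) := by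
          apply CartesianMonoidalCategory.hom_ext
          · simp
          · simp only [Category.assoc, whiskerLeft_snd, lift_snd]
            rw [← Category.assoc]
            congr 1
            ext <;> simp
        rw [h1, hmul, ← Category.assoc (α_ G G P).hom, h2] }
  -- the inverse of the shear map
  let d₁ : (P ⊗ P) ⊗ sp A C₁ ⟶ G :=
    (lift (fst _ _ ≫ fst P P) (snd _ _) ≫ xc q₁) * (lift (fst _ _ ≫ snd P P) (snd _ _) ≫ xc q₁)⁻¹
  let d₂ : (P ⊗ P) ⊗ sp A C₂ ⟶ G :=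
    (lift (fst _ _ ≫ fst P P) (snd _ _) ≫ xc q₂) * (lift (fst _ _ ≫ snd P P) (snd _ _) ≫ xc q₂)⁻¹
  obtain ⟨d, hd₁, hd₂⟩ := exists_hom_qa h d₁ d₂ (by
    simp only [d₁, d₂, MonObj.comp_mul, GrpObj.comp_inv, comp_lift_assoc, whiskerLeft_fst_assoc, whiskerLeft_snd]
    rw [hx, hx]
    group)
  have hD₁ : ∀ {T : Over (Spec (CommRingCat.of A))} (p p' : T ⟶ P) (c : T ⟶ sp A C₁),
      lift p p' ≫ d = (lift p c ≫ xc q₁) * (lift p' c ≫ xc q₁)⁻¹ := by
    intro T p p' c
    have h1 := congrArg (fun k => lift (lift p p') c ≫ k) hd₁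
    simpa only [d₁, lift_fst_assoc, comp_lift_assoc, MonObj.comp_mul, GrpObj.comp_inv, comp_lift, lift_fst,
      lift_snd] using h1
  have hD₂ : ∀ {T : Over (Spec (CommRingCat.of A))} (p p' : T ⟶ P) (c : T ⟶ sp A C₂),
      lift p p' ≫ d = (lift p c ≫ xc q₂) * (lift p' c ≫ xc q₂)⁻¹ := by
    intro T p p' c
    have h1 := congrArg (fun k => lift (lift p p') c ≫ k) hd₂
    simpa only [d₂, lift_fst_assoc, comp_lift_assoc, MonObj.comp_mul, GrpObj.comp_inv, comp_lift, lift_fst,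
      lift_snd] using h1
  have hpseudo : IsPseudoTorsorSch a := by
    refine ⟨lift d (snd P P), ?_, ?_⟩
    · have h1 : lift a.act (snd G P) ≫ d = fst G P := by
        refine hom_ext_qa h ?_ ?_
        · rw [comp_lift_assoc, hD₁ _ _ (snd (G ⊗ P) (sp A C₁))]
          have h2 : fst (G ⊗ P) (sp A C₁) ≫ act = lift (fst _ _ ≫ fst G P) (fst _ _ ≫ snd G P) ≫ act := by
            rw [← comp_lift_assoc, lift_fst_snd, Category.id_comp]
          change (lift (fst (G ⊗ P) (sp A C₁) ≫ act) _ ≫ _) * _ = _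
          rw [h2, hA₁ _ _ (snd (G ⊗ P) (sp A C₁)), xc_unique q₁ rfl, mul_inv_cancel_right]
        · rw [comp_lift_assoc, hD₂ _ _ (snd (G ⊗ P) (sp A C₂))]
          have h2 : fst (G ⊗ P) (sp A C₂) ≫ act = lift (fst _ _ ≫ fst G P) (fst _ _ ≫ snd G P) ≫ act := by
            rw [← comp_lift_assoc, lift_fst_snd, Category.id_comp]
          change (lift (fst (G ⊗ P) (sp A C₂) ≫ act) _ ≫ _) * _ = _
          rw [h2, hA₂ _ _ (snd (G ⊗ P) (sp A C₂)), xc_unique q₂ rfl, mul_inv_cancel_right]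
      apply CartesianMonoidalCategory.hom_ext
      · rw [Category.assoc, lift_fst, h1, Category.id_comp]
      · rw [Category.assoc, lift_snd, lift_snd, Category.id_comp]
    · apply CartesianMonoidalCategory.hom_ext
      · rw [Category.assoc, lift_fst, Category.id_comp]
        change lift d (snd P P) ≫ act = fst P P
        refine hom_ext_qa h ?_ ?_
        · rw [comp_lift_assoc, hA₁ _ _ (snd (P ⊗ P) (sp A C₁)), hd₁]
          simp only [d₁, inv_mul_cancel_right, xc_spec]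
        · rw [comp_lift_assoc, hA₂ _ _ (snd (P ⊗ P) (sp A C₂)), hd₂]
          simp only [d₂, inv_mul_cancel_right, xc_spec]
      · rw [Category.assoc, lift_snd, lift_snd, Category.id_comp]
  refine ⟨⟨a, hpseudo, ?_⟩, fun s => ?_⟩
  · haveI : Surjective P.hom := ⟨fun p => by
      rcases h.surj p with hp | hp
      · obtain ⟨c, hc'⟩ := hp
        refine ⟨(lift (1 : sp A C₁ ⟶ G) (𝟙 _) ≫ q₁).left c, ?_⟩
        rw [← Scheme.Hom.comp_apply, Over.w]
        exact hc'
      · obtain ⟨c, hc'⟩ := hp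
        refine ⟨(lift (1 : sp A C₂ ⟶ G) (𝟙 _) ≫ q₂).left c, ?_⟩
        rw [← Scheme.Hom.comp_apply, Over.w]
        exact hc'⟩
    refine ⟨Presieve.singleton P.hom, ?_, ?_⟩
    · change Presieve.singleton P.hom ∈ Scheme.precoverage (@Flat ⊓ @LocallyOfFinitePresentation) _
      rw [Scheme.singleton_mem_precoverage_iff]
      exact ⟨Surjective.surj, ‹Flat P.hom›, ‹LocallyOfFinitePresentation P.hom›⟩
    · rintro _ _ ⟨⟩
      exact ⟨𝟙 _, Category.id_comp _⟩
  · refine ⟨lift (toUnit _ ≫ s) (𝟙 _) ≫ xc q₁, lift (toUnit _ ≫ s) (𝟙 _) ≫ xc q₂, ?_⟩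
    rw [comp_lift_assoc, comp_lift_assoc, ← Category.assoc (spMap u₁), ← Category.assoc (spMap u₂), comp_toUnit, comp_toUnit, Category.comp_id, Category.comp_id]
    have := hx (toUnit _ ≫ s) (𝟙 (sp A C₃))
    simpa only [Category.id_comp] using this

end TorsGlueLib
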