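import Groth.Agent.TorsGlueLib.Affine
import Groth.Agent.TorsExtLib.Props
import Groth.Agent.FlatLib.FibreFlatScheme

/-!
# Formal glueing of morphisms of torsors under quasi-affine groups
-/

set_option autoImplicit false
set_option linter.style.haveILetI false
universe u

open CategoryTheory CategoryTheory.Limits MonoidalCategory CartesianMonoidalCategory AlgebraicGeometry
open NonAbH1 TorsExtLib

noncomputable section

namespace TorsGlueLib

variable {A C₁ C₂ C₃ : Type u} [CommRing A] [CommRing C₁] [CommRing C₂] [CommRing C₃]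
  [Algebra A C₁] [Algebra A C₂] [Algebra A C₃] {u₁ : C₁ →ₐ[A] C₃} {u₂ : C₂ →ₐ[A] C₃}

theorem hom_ext_qa (h : GlueSq u₁ u₂) {W G : Over (Spec (CommRingCat.of A))} [Flat W.hom] [G.left.IsQuasiAffine]
    {a b : W ⟶ G} (h1 : fst W (sp A C₁) ≫ a = fst W (sp A C₁) ≫ b)
    (h2 : fst W (sp A C₂) ≫ a = fst W (sp A C₂) ≫ b) : a = b := by
  refine Over.OverMorphism.ext (Scheme.Cover.hom_ext W.left.affineCover _ _ fun i => ?_)
  let Wi : Over (Spec (CommRingCat.of A)) := Over.mk (W.left.affineCover.f i ≫ W.hom)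
  let c : Wi ⟶ W := Over.homMk (W.left.affineCover.f i) rfl
  haveI : IsAffine Wi.left := inferInstanceAs (IsAffine (Spec _))
  haveI : Flat Wi.hom := MorphismProperty.comp_mem _ _ _ inferInstance ‹Flat W.hom›
  obtain ⟨f, -, huniq⟩ := existsUnique_hom h Wi (fst Wi (sp A C₁) ≫ c ≫ a).left (fst Wi (sp A C₂) ≫ c ≫ a).left (by
    simp only [← Over.comp_left]
    rw [whiskerLeft_fst_assoc, whiskerLeft_fst_assoc])
  have e1 := huniq (c ≫ a).left ⟨by rw [← Over.comp_left], by rw [← Over.comp_left]⟩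
  have e2 := huniq (c ≫ b).left ⟨by
      rw [← Over.comp_left]; congr 1
      rw [← whiskerRight_fst_assoc c, h1.symm, whiskerRight_fst_assoc],
    by
      rw [← Over.comp_left]; congr 1
      rw [← whiskerRight_fst_assoc c, h2.symm, whiskerRight_fst_assoc]⟩
  simp only [Over.comp_left] at e1 e2
  exact e1.trans e2.symm

theorem exists_hom_qa (h : GlueSq u₁ u₂) {W G : Over (Spec (CommRingCat.of A))} [IsAffine W.left] [Flat W.hom]
    [G.left.IsQuasiAffine] (f₁ : W ⊗ sp A C₁ ⟶ G) (f₂ : W ⊗ sp A C₂ ⟶ G)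
    (hf : (W ◁ spMap u₁) ≫ f₁ = (W ◁ spMap u₂) ≫ f₂) :
    ∃ g : W ⟶ G, fst W (sp A C₁) ≫ g = f₁ ∧ fst W (sp A C₂) ≫ g = f₂ := by
  obtain ⟨f, ⟨h1, h2⟩, -⟩ := existsUnique_hom h W f₁.left f₂.left (by rw [← Over.comp_left, hf, Over.comp_left])
  obtain ⟨s, -, huniq⟩ := existsUnique_hom h W (W ⊗ sp A C₁).hom (W ⊗ sp A C₂).hom
    ((Over.w (W ◁ spMap u₁)).trans (Over.w (W ◁ spMap u₂)).symm)
  have hw : f ≫ G.hom = W.hom :=
    (huniq _ ⟨by rw [← Category.assoc, h1, Over.w f₁], by rw [← Category.assoc, h2, Over.w f₂]⟩).trans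
      (huniq _ ⟨Over.w _, Over.w _⟩).symm
  exact ⟨Over.homMk f hw, Over.OverMorphism.ext h1, Over.OverMorphism.ext h2⟩

variable {G P P' : Over (Spec (CommRingCat.of A))} [GrpObj G]

theorem hom_ext_torsor (h : GlueSq u₁ u₂) [G.left.IsQuasiAffine] (aP : AlgGrp.Action G P) (hP : IsPseudoTorsorSch aP)
    {T : Over (Spec (CommRingCat.of A))} [Flat T.hom] [Surjective T.hom] (p : T ⟶ P)
    {W : Over (Spec (CommRingCat.of A))} [Flat W.hom]
    {a b : W ⟶ P} (h1 : fst W (sp A C₁) ≫ a = fst W (sp A C₁) ≫ b)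
    (h2 : fst W (sp A C₂) ≫ a = fst W (sp A C₂) ≫ b) : a = b := by
  haveI := isIso_orb aP hP p
  haveI : Flat (fst W T).left := property_fst (Q := @Flat) W T ‹_›
  haveI : Surjective (fst W T).left := property_fst (Q := @Surjective) W T ‹_›
  haveI : Flat (W ⊗ T).hom := by
    rw [← Over.w (fst W T)]
    exact MorphismProperty.comp_mem _ _ _ inferInstance ‹Flat W.hom›
  haveI : Epi (fst W T).left := Flat.epi_of_flat_of_surjective _
  let γ : (W ⟶ P) → (W ⊗ T ⟶ G) := fun x => lift (fst W T ≫ x) (snd W T) ≫ inv (orb aP p) ≫ fst G T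
  have hγ : ∀ x, lift (γ x) (snd W T ≫ p) ≫ aP.act = fst W T ≫ x := by
    intro x
    have h3 : inv (orb aP p) ≫ snd G T = snd P T := by rw [IsIso.inv_comp_eq]; simp [orb]
    have h4 : lift (γ x) (snd W T) = lift (fst W T ≫ x) (snd W T) ≫ inv (orb aP p) := by
      apply CartesianMonoidalCategory.hom_ext <;> simp [γ, h3]
    have h5 := congrArg (· ≫ orb aP p ≫ fst P T) h4
    simp only [Category.assoc, IsIso.inv_hom_id_assoc] at h5
    simpa [orb] using h5
  have hab : γ a = γ b := by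
    refine hom_ext_qa h ?_ ?_
    all_goals
      simp only [γ, comp_lift_assoc, ← Category.assoc (fst (W ⊗ T) _) (fst W T)]
      rw [← whiskerRight_fst (fst W T), Category.assoc, Category.assoc]
      simp only [h1, h2]
  have : fst W T ≫ a = fst W T ≫ b := by rw [← hγ a, ← hγ b, hab]
  refine Over.OverMorphism.ext ?_
  rw [← cancel_epi (fst W T).left, ← Over.comp_left, this, Over.comp_left]

theorem isIso_of_equivariant {S : Scheme.{u}} {G P P' : Over S} [GrpObj G] (aP : AlgGrp.Action G P)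
    (aP' : AlgGrp.Action G P') (hP : IsPseudoTorsorSch aP) (hP' : IsPseudoTorsorSch aP')
    {T : Over S} [Flat T.hom] [Surjective T.hom] [LocallyOfFinitePresentation T.hom] (p : T ⟶ P) (f : P ⟶ P')
    (hf : aP.act ≫ f = (G ◁ f) ≫ aP'.act) : IsIso f := by
  haveI := isIso_orb aP hP p
  haveI := isIso_orb aP' hP' (p ≫ f)
  have e : orb aP p ≫ (f ▷ T) = orb aP' (p ≫ f) := by
    apply CartesianMonoidalCategory.hom_ext
    · simp only [orb, Category.assoc, whiskerRight_fst, lift_fst_assoc, hf, lift_fst]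
      rw [MonoidalCategory.whiskerLeft_comp, Category.assoc]
    · simp [orb]
  haveI : IsIso (f ▷ T) := by
    haveI : IsIso (orb aP p ≫ (f ▷ T)) := by rw [e]; infer_instance
    exact IsIso.of_isIso_comp_left (orb aP p) _
  have hQ : (@Surjective ⊓ @Flat ⊓ @LocallyOfFinitePresentation : MorphismProperty Scheme.{u}) (fst P' T).left :=
    ⟨⟨property_fst (Q := @Surjective) P' T ‹_›, property_fst (Q := @Flat) P' T ‹_›⟩,
      property_fst (Q := @LocallyOfFinitePresentation) P' T ‹_›⟩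
  haveI : IsIso f.left := MorphismProperty.of_isPullback_of_descendsAlong (P := MorphismProperty.isomorphisms Scheme)
    (forget_map_whiskerRight f T) hQ (show IsIso ((Over.forget S).map (f ▷ T)) from inferInstance)
  haveI : IsIso ((Over.forget S).map f) := ‹IsIso f.left›
  exact isIso_of_reflects_iso f (Over.forget S)

theorem flat_torsor {S : Scheme.{u}} {G P : Over S} [GrpObj G] [Flat G.hom] (aP : AlgGrp.Action G P)
    (hP : IsPseudoTorsorSch aP) {T : Over S} [Flat T.hom] [Surjective T.hom] (p : T ⟶ P) : Flat P.hom := by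
  haveI : Flat (fst P T).left := property_fst (Q := @Flat) P T ‹_›
  haveI : Surjective (fst P T).left := property_fst (Q := @Surjective) P T ‹_›
  haveI : Flat ((fst P T).left ≫ P.hom) := by
    rw [Over.w (fst P T), ← Over.w (snd P T)]
    exact MorphismProperty.comp_mem _ _ _ (property_of_point aP hP (Q := @Flat) ‹Flat G.hom› p) ‹Flat T.hom›
  exact FlatLib.flat_of_flat_surjective_comp (fst P T).left P.hom

theorem exists_affine_cover {T : Over (Spec (CommRingCat.of A))} [Flat T.hom] [Surjective T.hom]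
    [LocallyOfFinitePresentation T.hom] : ∃ T₀ : Over (Spec (CommRingCat.of A)),
      IsAffine T₀.left ∧ Flat T₀.hom ∧ Surjective T₀.hom ∧ LocallyOfFinitePresentation T₀.hom ∧ Nonempty (T₀ ⟶ T) := by
  obtain ⟨(V : T.left.Opens), hV, hVeq⟩ := T.hom.isOpenMap.exists_opens_image_eq_of_prespectralSpace
    T.hom.continuous (by simp) isOpen_univ isCompact_univ
  haveI : CompactSpace (V : Scheme.{u}) := isCompact_iff_compactSpace.mp hV
  obtain ⟨Y, q, hsurj, hloc, hY⟩ := (V : Scheme.{u}).exists_hom_isAffine_of_isZariskiLocalAtSource @IsLocalIso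
  haveI : IsLocalIso q := hloc
  haveI : Flat q := (IsLocalIso.le_of_isZariskiLocalAtSource @Flat) _ _ q hloc
  haveI : MorphismProperty.ContainsIdentities (@LocallyOfFinitePresentation : MorphismProperty Scheme.{u}) :=
    ⟨fun X => (inferInstance : LocallyOfFinitePresentation (𝟙 X))⟩
  haveI : LocallyOfFinitePresentation q := (IsLocalIso.le_of_isZariskiLocalAtSource @LocallyOfFinitePresentation) _ _ q hloc
  refine ⟨Over.mk (q ≫ V.ι ≫ T.hom), hY, ?_, ⟨fun s => ?_⟩, ?_, ⟨Over.homMk (q ≫ V.ι) (Category.assoc _ _ _)⟩⟩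
  · exact MorphismProperty.comp_mem _ _ _ ‹Flat q› (MorphismProperty.comp_mem _ _ _ inferInstance ‹_›)
  · obtain ⟨t, ht, hts⟩ := hVeq.ge (Set.mem_univ s)
    obtain ⟨y, hy⟩ := hsurj.surj ⟨t, ht⟩
    refine ⟨y, ?_⟩
    change (q ≫ V.ι ≫ T.hom) y = s
    rw [Scheme.Hom.comp_apply, hy, Scheme.Hom.comp_apply]
    exact hts
  · exact MorphismProperty.comp_mem _ _ _ ‹LocallyOfFinitePresentation q›
      (MorphismProperty.comp_mem _ _ _ inferInstance ‹_›)

theorem existsUnique_glue (h : GlueSq u₁ u₂) [G.left.IsQuasiAffine] [Flat G.hom]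
    (aP : AlgGrp.Action G P) (aP' : AlgGrp.Action G P')
    (hP : IsTorsorFor Scheme.fppfPrecoverage aP) (hP' : IsTorsorFor Scheme.fppfPrecoverage aP')
    (ψ₁ : P ⊗ sp A C₁ ⟶ P') (ψ₂ : P ⊗ sp A C₂ ⟶ P')
    (hψ₁ : ∀ (T : Over (Spec (CommRingCat.of A))) (g : T ⟶ G) (x : T ⟶ P) (k : T ⟶ sp A C₁),
      lift (lift g x ≫ aP.act) k ≫ ψ₁ = lift g (lift x k ≫ ψ₁) ≫ aP'.act)
    (hψ₂ : ∀ (T : Over (Spec (CommRingCat.of A))) (g : T ⟶ G) (x : T ⟶ P) (k : T ⟶ sp A C₂),
      lift (lift g x ≫ aP.act) k ≫ ψ₂ = lift g (lift x k ≫ ψ₂) ≫ aP'.act)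
    (hψ : (P ◁ spMap u₁) ≫ ψ₁ = (P ◁ spMap u₂) ≫ ψ₂) :
    (∃ φ : P ⟶ P', fst P (sp A C₁) ≫ φ = ψ₁ ∧ fst P (sp A C₂) ≫ φ = ψ₂ ∧
      aP.act ≫ φ = (G ◁ φ) ≫ aP'.act ∧ IsIso φ) ∧
    ∀ φ φ' : P ⟶ P', fst P (sp A C₁) ≫ φ = fst P (sp A C₁) ≫ φ' →
      fst P (sp A C₂) ≫ φ = fst P (sp A C₂) ≫ φ' → φ = φ' := by
  obtain ⟨TP, hTP1, hTP2, hTP3, ⟨pP⟩⟩ := exists_cover hP.2
  obtain ⟨TQ, hTQ1, hTQ2, hTQ3, ⟨pQ⟩⟩ := exists_cover hP'.2
  haveI : Flat (TP ⊗ TQ).hom := by
    rw [← Over.w (fst TP TQ)]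
    exact MorphismProperty.comp_mem _ _ _ (property_fst (Q := @Flat) TP TQ hTQ1) hTP1
  haveI : Surjective (TP ⊗ TQ).hom := by
    rw [← Over.w (fst TP TQ)]
    exact MorphismProperty.comp_mem _ _ _ (property_fst (Q := @Surjective) TP TQ hTQ2) hTP2
  haveI : LocallyOfFinitePresentation (TP ⊗ TQ).hom := by
    rw [← Over.w (fst TP TQ)]
    exact MorphismProperty.comp_mem _ _ _ (property_fst (Q := @LocallyOfFinitePresentation) TP TQ hTQ3) hTP3
  obtain ⟨T, hTaff, hT1, hT2, hT3, ⟨c⟩⟩ := exists_affine_cover (T := TP ⊗ TQ)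
  let p : T ⟶ P := c ≫ fst TP TQ ≫ pP
  let q : T ⟶ P' := c ≫ snd TP TQ ≫ pQ
  haveI := isIso_orb aP hP.1 p
  haveI := isIso_orb aP' hP'.1 q
  haveI hPflat : Flat P.hom := flat_torsor aP hP.1 p
  have huniq : ∀ φ φ' : P ⟶ P', fst P (sp A C₁) ≫ φ = fst P (sp A C₁) ≫ φ' →
      fst P (sp A C₂) ≫ φ = fst P (sp A C₂) ≫ φ' → φ = φ' :=
    fun φ φ' h1 h2 => hom_ext_torsor h aP' hP'.1 q h1 h2
  refine ⟨?_, huniq⟩
  let δ : ∀ {C : Type u} [CommRing C] [Algebra A C], (P ⊗ sp A C ⟶ P') → (T ⊗ sp A C ⟶ G) :=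
    fun {C} _ _ ψ => lift ((p ▷ sp A C) ≫ ψ) (fst T (sp A C)) ≫ inv (orb aP' q) ≫ fst G T
  obtain ⟨g, hg1, hg2⟩ := exists_hom_qa h (δ ψ₁) (δ ψ₂) (by
    simp only [δ, comp_lift_assoc, whiskerLeft_fst, whisker_exchange_assoc]
    rw [hψ])
  have hδ : ∀ {C : Type u} [CommRing C] [Algebra A C] (ψ : P ⊗ sp A C ⟶ P'),
      lift (δ ψ) (fst T (sp A C) ≫ q) ≫ aP'.act = (p ▷ sp A C) ≫ ψ := by
    intro C _ _ ψ
    have h3 : inv (orb aP' q) ≫ snd G T = snd P' T := by rw [IsIso.inv_comp_eq]; simp [orb]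
    have h4 : lift (δ ψ) (fst T (sp A C)) = lift ((p ▷ sp A C) ≫ ψ) (fst T (sp A C)) ≫ inv (orb aP' q) := by
      apply CartesianMonoidalCategory.hom_ext <;> simp [δ, h3]
    have h5 := congrArg (· ≫ orb aP' q ≫ fst P' T) h4
    simp only [Category.assoc, IsIso.inv_hom_id_assoc] at h5
    simpa [orb] using h5
  let q' : T ⟶ P' := lift g q ≫ aP'.act
  let φT : P ⊗ T ⟶ P' := inv (orb aP p) ≫ (G ◁ q') ≫ aP'.act
  have hagree : ∀ {C : Type u} [CommRing C] [Algebra A C] (ψ : P ⊗ sp A C ⟶ P'),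
      (∀ (T : Over (Spec (CommRingCat.of A))) (g : T ⟶ G) (x : T ⟶ P) (k : T ⟶ sp A C),
        lift (lift g x ≫ aP.act) k ≫ ψ = lift g (lift x k ≫ ψ) ≫ aP'.act) →
      fst T (sp A C) ≫ g = δ ψ →
      fst (P ⊗ T) (sp A C) ≫ φT = (fst P T ▷ sp A C) ≫ ψ := by
    intro C _ _ ψ hequiv hgψ
    have hq' : fst T (sp A C) ≫ q' = (p ▷ sp A C) ≫ ψ := by
      rw [← hδ ψ, ← hgψ, comp_lift_assoc]
    haveI : IsIso (orb aP p ▷ sp A C) := inferInstance
    rw [← cancel_epi (orb aP p ▷ sp A C), whiskerRight_fst_assoc]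
    simp only [φT, IsIso.hom_inv_id_assoc, ← comp_whiskerRight_assoc]
    have h6 : orb aP p ≫ fst P T = (G ◁ p) ≫ aP.act := by simp [orb]
    rw [h6]
    have h7 : fst (G ⊗ T) (sp A C) ≫ (G ◁ q') =
        lift (fst (G ⊗ T) (sp A C) ≫ fst G T) ((snd G T ▷ sp A C) ≫ fst T (sp A C) ≫ q') := by
      apply CartesianMonoidalCategory.hom_ext <;> simp
    have h8 : ((G ◁ p) ≫ aP.act) ▷ sp A C = lift (lift (fst (G ⊗ T) (sp A C) ≫ fst G T)
        (fst (G ⊗ T) (sp A C) ≫ snd G T ≫ p) ≫ aP.act) (snd (G ⊗ T) (sp A C)) := by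
      apply CartesianMonoidalCategory.hom_ext
      · simp only [whiskerRight_fst, lift_fst]
        rw [← Category.assoc (fst _ _)]
        congr 1
        apply CartesianMonoidalCategory.hom_ext <;> simp
      · simp
    rw [reassoc_of% h7, hq', h8, hequiv]
    congr 2
    rw [← Category.assoc, ← Category.assoc]
    congr 1
    apply CartesianMonoidalCategory.hom_ext <;> simp
  -- descent
  haveI : Flat (fst P T).left := property_fst (Q := @Flat) P T hT1
  haveI : Surjective (fst P T).left := property_fst (Q := @Surjective) P T hT2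
  haveI : LocallyOfFinitePresentation (fst P T).left := property_fst (Q := @LocallyOfFinitePresentation) P T hT3
  haveI : Flat (P ⊗ T).hom := by
    rw [← Over.w (fst P T)]
    exact MorphismProperty.comp_mem _ _ _ inferInstance hPflat
  let a : (P ⊗ T) ⊗ T ⟶ P ⊗ T := fst (P ⊗ T) T
  let b : (P ⊗ T) ⊗ T ⟶ P ⊗ T := lift (fst (P ⊗ T) T ≫ fst P T) (snd (P ⊗ T) T)
  have hab : a ≫ φT = b ≫ φT := by
    haveI : Flat ((P ⊗ T) ⊗ T).hom := by
      rw [← Over.w (fst (P ⊗ T) T)]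
      exact MorphismProperty.comp_mem _ _ _ (property_fst (Q := @Flat) (P ⊗ T) T hT1) inferInstance
    refine hom_ext_torsor h aP' hP'.1 q ?_ ?_
    · rw [← whiskerRight_fst_assoc a, ← whiskerRight_fst_assoc b, hagree ψ₁ hψ₁ hg1, ← comp_whiskerRight_assoc,
        ← comp_whiskerRight_assoc]
      simp [a, b]
    · rw [← whiskerRight_fst_assoc a, ← whiskerRight_fst_assoc b, hagree ψ₂ hψ₂ hg2, ← comp_whiskerRight_assoc,
        ← comp_whiskerRight_assoc]
      simp [a, b]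
  let φl : P.left ⟶ P'.left := EffectiveEpi.desc (fst P T).left φT.left fun {Z} g₁ g₂ hg => by
    let Zo : Over (Spec (CommRingCat.of A)) := Over.mk (g₁ ≫ (P ⊗ T).hom)
    let k₁ : Zo ⟶ P ⊗ T := Over.homMk g₁ rfl
    let k₂ : Zo ⟶ P ⊗ T := Over.homMk g₂ (by
      change g₂ ≫ (P ⊗ T).hom = g₁ ≫ (P ⊗ T).hom
      rw [← Over.w (fst P T), ← Category.assoc, ← hg, Category.assoc])
    have hk : k₁ ≫ fst P T = k₂ ≫ fst P T := Over.OverMorphism.ext hg
    have e1 : lift k₁ (k₂ ≫ snd P T) ≫ a = k₁ := lift_fst _ _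
    have e2 : lift k₁ (k₂ ≫ snd P T) ≫ b = k₂ := by
      apply CartesianMonoidalCategory.hom_ext <;> simp [b, hk]
    have := congrArg (fun m => (lift k₁ (k₂ ≫ snd P T) ≫ m).left) hab
    simp only [← Category.assoc, e1, e2] at this
    exact this
  have hφl : (fst P T).left ≫ φl = φT.left := EffectiveEpi.fac _ _ _
  haveI : Epi (fst P T).left := Flat.epi_of_flat_of_surjective _
  let φ : P ⟶ P' := Over.homMk φl (by
    rw [← cancel_epi (fst P T).left, ← Category.assoc, hφl, Over.w φT, Over.w (fst P T)])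
  have hφ : fst P T ≫ φ = φT := Over.OverMorphism.ext hφl
  have hres : ∀ {C : Type u} [CommRing C] [Algebra A C] (ψ : P ⊗ sp A C ⟶ P'),
      fst (P ⊗ T) (sp A C) ≫ φT = (fst P T ▷ sp A C) ≫ ψ → fst P (sp A C) ≫ φ = ψ := by
    intro C _ _ ψ hψC
    haveI : Flat (fst P T ▷ sp A C).left :=
      MorphismProperty.of_isPullback (forget_map_whiskerRight (fst P T) (sp A C)).flip ‹Flat (fst P T).left›
    haveI : Surjective (fst P T ▷ sp A C).left :=
      MorphismProperty.of_isPullback (forget_map_whiskerRight (fst P T) (sp A C)).flip ‹Surjective (fst P T).left›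
    haveI : Epi (fst P T ▷ sp A C).left := Flat.epi_of_flat_of_surjective _
    refine Over.OverMorphism.ext ?_
    rw [← cancel_epi (fst P T ▷ sp A C).left, ← Over.comp_left, ← Over.comp_left, whiskerRight_fst_assoc, hφ, hψC]
  have hφ1 := hres ψ₁ (hagree ψ₁ hψ₁ hg1)
  have hφ2 := hres ψ₂ (hagree ψ₂ hψ₂ hg2)
  have hequiv : aP.act ≫ φ = (G ◁ φ) ≫ aP'.act := by
    haveI : Flat (G ⊗ P).hom := by
      rw [← Over.w (fst G P)]
      exact MorphismProperty.comp_mem _ _ _ (property_fst (Q := @Flat) G P hPflat) ‹Flat G.hom›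
    refine hom_ext_torsor h aP' hP'.1 q ?_ ?_
    · rw [← whiskerRight_fst_assoc aP.act, hφ1]
      have e : aP.act ▷ sp A C₁ = lift (lift (fst (G ⊗ P) (sp A C₁) ≫ fst G P) (fst (G ⊗ P) (sp A C₁) ≫ snd G P) ≫ aP.act)
          (snd (G ⊗ P) (sp A C₁)) := by
        apply CartesianMonoidalCategory.hom_ext <;> simp
      rw [e, hψ₁, ← hφ1, ← Category.assoc (fst (G ⊗ P) (sp A C₁))]
      congr 1
      apply CartesianMonoidalCategory.hom_ext <;> simp
    · rw [← whiskerRight_fst_assoc aP.act, hφ2]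
      have e : aP.act ▷ sp A C₂ = lift (lift (fst (G ⊗ P) (sp A C₂) ≫ fst G P) (fst (G ⊗ P) (sp A C₂) ≫ snd G P) ≫ aP.act)
          (snd (G ⊗ P) (sp A C₂)) := by
        apply CartesianMonoidalCategory.hom_ext <;> simp
      rw [e, hψ₂, ← hφ2, ← Category.assoc (fst (G ⊗ P) (sp A C₂))]
      congr 1
      apply CartesianMonoidalCategory.hom_ext <;> simp
  exact ⟨φ, hφ1, hφ2, hequiv, isIso_of_equivariant aP aP' hP.1 hP'.1 p φ hequiv⟩

end TorsGlueLib
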