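import Groth.Agent.TorsGlueLib.Ring
import Mathlib.AlgebraicGeometry.QuasiAffine
import Mathlib.AlgebraicGeometry.Pullbacks
import Mathlib.AlgebraicGeometry.PullbackCarrier
import Mathlib.AlgebraicGeometry.Morphisms.Flat
import Mathlib.CategoryTheory.Monoidal.Cartesian.Over

/-!
# Formal glueing of morphisms to quasi-affine schemes
-/

set_option autoImplicit false
set_option linter.style.haveILetI false
universe u

open CategoryTheory CategoryTheory.Limits AlgebraicGeometry TensorProduct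
open MonoidalCategory CartesianMonoidalCategory

noncomputable section

namespace TorsGlueLib

variable {A C₁ C₂ C₃ : Type u} [CommRing A] [CommRing C₁] [CommRing C₂] [CommRing C₃]
  [Algebra A C₁] [Algebra A C₂] [Algebra A C₃] {u₁ : C₁ →ₐ[A] C₃} {u₂ : C₂ →ₐ[A] C₃}

abbrev sp (A : Type u) [CommRing A] (B : Type u) [CommRing B] [Algebra A B] : Over (Spec (CommRingCat.of A)) :=
  Over.mk (Spec.map (CommRingCat.ofHom (algebraMap A B)))

def spMap {B B' : Type u} [CommRing B] [CommRing B'] [Algebra A B] [Algebra A B'] (u : B →ₐ[A] B') :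
    sp A B' ⟶ sp A B :=
  Over.homMk (Spec.map (CommRingCat.ofHom u.toRingHom)) (by
    change Spec.map _ ≫ Spec.map _ = Spec.map _
    rw [← Spec.map_comp, ← CommRingCat.ofHom_comp]
    exact congrArg (fun k => Spec.map (CommRingCat.ofHom k)) u.comp_algebraMap)

/-- The formal glueing square. -/
structure GlueSq (u₁ : C₁ →ₐ[A] C₃) (u₂ : C₂ →ₐ[A] C₃) : Prop where
  eq : IsEqualizerSq u₁ u₂
  surj : ∀ p : PrimeSpectrum A,
    p ∈ Set.range (PrimeSpectrum.comap (algebraMap A C₁)) ∨ p ∈ Set.range (PrimeSpectrum.comap (algebraMap A C₂))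

theorem spec_point {B C : Type u} [CommRing B] [Algebra A B] [CommRing C] [Algebra A C] (q : Spec (CommRingCat.of B))
    (h : (Spec.map (CommRingCat.ofHom (algebraMap A B))) q ∈
      Set.range (PrimeSpectrum.comap (algebraMap A C))) :
    ∃ w : Spec (CommRingCat.of (B ⊗[A] C)),
      (Spec.map (CommRingCat.ofHom (Algebra.TensorProduct.includeLeftRingHom : B →+* B ⊗[A] C))) w = q := by
  obtain ⟨c, hc⟩ := h
  obtain ⟨z, hz, -⟩ := Scheme.exists_preimage_of_isPullback
    (IsPullback.of_hasPullback (Spec.map (CommRingCat.ofHom (algebraMap A B)))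
      (Spec.map (CommRingCat.ofHom (algebraMap A C)))) q c hc.symm
  refine ⟨(pullbackSpecIso A B C).hom z, ?_⟩
  rw [← Scheme.Hom.comp_apply, pullbackSpecIso_hom_fst, hz]

theorem existsUnique_specHom (h : GlueSq u₁ u₂) (B : Type u) [CommRing B] [Algebra A B] [Module.Flat A B]
    {Z : Scheme.{u}} [Z.IsQuasiAffine] (f₁ : Spec (CommRingCat.of (B ⊗[A] C₁)) ⟶ Z)
    (f₂ : Spec (CommRingCat.of (B ⊗[A] C₂)) ⟶ Z)
    (hf : Spec.map (CommRingCat.ofHom (Algebra.TensorProduct.map (AlgHom.id A B) u₁).toRingHom) ≫ f₁ =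
      Spec.map (CommRingCat.ofHom (Algebra.TensorProduct.map (AlgHom.id A B) u₂).toRingHom) ≫ f₂) :
    ∃! f : Spec (CommRingCat.of B) ⟶ Z,
      Spec.map (CommRingCat.ofHom (Algebra.TensorProduct.includeLeftRingHom : B →+* B ⊗[A] C₁)) ≫ f = f₁ ∧
      Spec.map (CommRingCat.ofHom (Algebra.TensorProduct.includeLeftRingHom : B →+* B ⊗[A] C₂)) ≫ f = f₂ := by
  obtain ⟨ψ₁, hψ₁⟩ := Spec.map_surjective (f₁ ≫ Z.toSpecΓ)
  obtain ⟨ψ₂, hψ₂⟩ := Spec.map_surjective (f₂ ≫ Z.toSpecΓ)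
  have hψ : ψ₁ ≫ CommRingCat.ofHom (Algebra.TensorProduct.map (AlgHom.id A B) u₁).toRingHom =
      ψ₂ ≫ CommRingCat.ofHom (Algebra.TensorProduct.map (AlgHom.id A B) u₂).toRingHom := by
    refine Spec.map_injective ?_
    rw [Spec.map_comp, Spec.map_comp, hψ₁, hψ₂, reassoc_of% hf]
  have hr : ∀ r, ∃! b : B, b ⊗ₜ[A] (1 : C₁) = ψ₁ r ∧ b ⊗ₜ[A] (1 : C₂) = ψ₂ r :=
    fun r => h.eq.tensor _ _ (congrArg (fun k => k.hom r) hψ)
  choose g hg huniq using hr
  let ψ : Γ(Z, ⊤) →+* B :=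
    { toFun := g
      map_one' := (huniq 1 1 ⟨by rw [map_one]; rfl, by rw [map_one]; rfl⟩).symm
      map_mul' := fun r s => (huniq _ _ ⟨by rw [map_mul, ← (hg r).1, ← (hg s).1, Algebra.TensorProduct.tmul_mul_tmul, mul_one],
        by rw [map_mul, ← (hg r).2, ← (hg s).2, Algebra.TensorProduct.tmul_mul_tmul, mul_one]⟩).symm
      map_zero' := (huniq 0 0 ⟨by rw [map_zero, TensorProduct.zero_tmul], by rw [map_zero, TensorProduct.zero_tmul]⟩).symm
      map_add' := fun r s => (huniq _ _ ⟨by rw [map_add, ← (hg r).1, ← (hg s).1, TensorProduct.add_tmul],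
        by rw [map_add, ← (hg r).2, ← (hg s).2, TensorProduct.add_tmul]⟩).symm }
  let F : Spec (CommRingCat.of B) ⟶ Spec Γ(Z, ⊤) := Spec.map (CommRingCat.ofHom ψ)
  have hF₁ : Spec.map (CommRingCat.ofHom (Algebra.TensorProduct.includeLeftRingHom : B →+* B ⊗[A] C₁)) ≫ F =
      f₁ ≫ Z.toSpecΓ := by
    rw [← hψ₁, ← Spec.map_comp]
    exact congrArg Spec.map (CommRingCat.hom_ext (RingHom.ext fun r => (hg r).1))
  have hF₂ : Spec.map (CommRingCat.ofHom (Algebra.TensorProduct.includeLeftRingHom : B →+* B ⊗[A] C₂)) ≫ F =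
      f₂ ≫ Z.toSpecΓ := by
    rw [← hψ₂, ← Spec.map_comp]
    exact congrArg Spec.map (CommRingCat.hom_ext (RingHom.ext fun r => (hg r).2))
  have hrange : Set.range F ⊆ Set.range Z.toSpecΓ := by
    rintro _ ⟨q, rfl⟩
    rcases h.surj ((Spec.map (CommRingCat.ofHom (algebraMap A B))) q) with hp | hp
    · obtain ⟨w, rfl⟩ := spec_point q hp
      rw [← Scheme.Hom.comp_apply, hF₁, Scheme.Hom.comp_apply]
      exact ⟨_, rfl⟩
    · obtain ⟨w, rfl⟩ := spec_point q hp
      rw [← Scheme.Hom.comp_apply, hF₂, Scheme.Hom.comp_apply]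
      exact ⟨_, rfl⟩
  refine ⟨IsOpenImmersion.lift Z.toSpecΓ F hrange, ⟨?_, ?_⟩, fun f' hf' => ?_⟩
  · rw [← cancel_mono Z.toSpecΓ, Category.assoc, IsOpenImmersion.lift_fac, hF₁]
  · rw [← cancel_mono Z.toSpecΓ, Category.assoc, IsOpenImmersion.lift_fac, hF₂]
  · rw [← cancel_mono Z.toSpecΓ, IsOpenImmersion.lift_fac]
    obtain ⟨ψ', hψ'⟩ := Spec.map_surjective (f' ≫ Z.toSpecΓ)
    rw [← hψ']
    have h1 : ψ' ≫ CommRingCat.ofHom (Algebra.TensorProduct.includeLeftRingHom : B →+* B ⊗[A] C₁) = ψ₁ :=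
      Spec.map_injective (by rw [Spec.map_comp, hψ', hψ₁, ← Category.assoc, hf'.1])
    have h2 : ψ' ≫ CommRingCat.ofHom (Algebra.TensorProduct.includeLeftRingHom : B →+* B ⊗[A] C₂) = ψ₂ :=
      Spec.map_injective (by rw [Spec.map_comp, hψ', hψ₂, ← Category.assoc, hf'.2])
    exact congrArg Spec.map (CommRingCat.hom_ext (RingHom.ext fun r =>
      huniq r _ ⟨congrArg (fun k => k.hom r) h1, congrArg (fun k => k.hom r) h2⟩))

/-- The comparison of `⊗` of affine schemes over an affine base with `Spec` of the tensor product. -/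
def spTensor (B C : Type u) [CommRing B] [Algebra A B] [CommRing C] [Algebra A C] :
    (sp A B ⊗ sp A C).left ≅ Spec (CommRingCat.of (B ⊗[A] C)) :=
  pullbackSpecIso A B C

theorem existsUnique_hom_affine (h : GlueSq u₁ u₂) (B : Type u) [CommRing B] [Algebra A B] [Module.Flat A B]
    {Z : Scheme.{u}} [Z.IsQuasiAffine] (f₁ : (sp A B ⊗ sp A C₁).left ⟶ Z) (f₂ : (sp A B ⊗ sp A C₂).left ⟶ Z)
    (hf : (sp A B ◁ spMap u₁).left ≫ f₁ = (sp A B ◁ spMap u₂).left ≫ f₂) :
    ∃! f : (sp A B).left ⟶ Z, (fst (sp A B) (sp A C₁)).left ≫ f = f₁ ∧ (fst (sp A B) (sp A C₂)).left ≫ f = f₂ := by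
  have key : ∀ {C : Type u} [CommRing C] [Algebra A C] (u : C →ₐ[A] C₃),
      (spTensor B C₃).inv ≫ (sp A B ◁ spMap u).left =
        Spec.map (CommRingCat.ofHom (Algebra.TensorProduct.map (AlgHom.id A B) u).toRingHom) ≫ (spTensor B C).inv := by
    intro C _ _ u
    apply pullback.hom_ext
    · change ((pullbackSpecIso A B C₃).inv ≫ (sp A B ◁ spMap u).left) ≫ (fst (sp A B) (sp A C)).left = _
      rw [Category.assoc, ← Over.comp_left, whiskerLeft_fst]
      change (pullbackSpecIso A B C₃).inv ≫ pullback.fst _ _ = _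
      rw [pullbackSpecIso_inv_fst]
      change _ = (_ ≫ (pullbackSpecIso A B C).inv) ≫ pullback.fst _ _
      rw [Category.assoc, pullbackSpecIso_inv_fst, ← Spec.map_comp]
      exact congrArg Spec.map (CommRingCat.hom_ext (RingHom.ext fun b => by simp))
    · change ((pullbackSpecIso A B C₃).inv ≫ (sp A B ◁ spMap u).left) ≫ (snd (sp A B) (sp A C)).left = _
      rw [Category.assoc, ← Over.comp_left, whiskerLeft_snd, Over.comp_left, ← Category.assoc]
      change ((pullbackSpecIso A B C₃).inv ≫ pullback.snd _ _) ≫ _ = _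
      rw [pullbackSpecIso_inv_snd]
      change _ = (_ ≫ (pullbackSpecIso A B C).inv) ≫ pullback.snd _ _
      rw [Category.assoc, pullbackSpecIso_inv_snd]
      change Spec.map _ ≫ Spec.map _ = _
      rw [← Spec.map_comp, ← Spec.map_comp]
      exact congrArg Spec.map (CommRingCat.hom_ext (RingHom.ext fun c => by simp))
  have hfst : ∀ (C : Type u) [CommRing C] [Algebra A C], (spTensor B C).inv ≫ (fst (sp A B) (sp A C)).left =
      Spec.map (CommRingCat.ofHom (Algebra.TensorProduct.includeLeftRingHom : B →+* B ⊗[A] C)) :=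
    fun C _ _ => pullbackSpecIso_inv_fst A B C
  obtain ⟨f, ⟨h1, h2⟩, huniq⟩ := existsUnique_specHom h B ((spTensor B C₁).inv ≫ f₁) ((spTensor B C₂).inv ≫ f₂) (by
    rw [← Category.assoc, ← key, ← Category.assoc, ← key, Category.assoc, Category.assoc, hf])
  refine ⟨f, ⟨?_, ?_⟩, fun f' hf' => huniq f' ⟨?_, ?_⟩⟩
  · rw [← cancel_epi (spTensor (A := A) B C₁).inv, ← Category.assoc, hfst C₁]
    exact h1
  · rw [← cancel_epi (spTensor (A := A) B C₂).inv, ← Category.assoc, hfst C₂]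
    exact h2
  · rw [← hfst C₁, Category.assoc]
    exact congrArg ((spTensor B C₁).inv ≫ ·) hf'.1
  · rw [← hfst C₂, Category.assoc]
    exact congrArg ((spTensor B C₂).inv ≫ ·) hf'.2

theorem existsUnique_hom (h : GlueSq u₁ u₂) (W : Over (Spec (CommRingCat.of A))) [IsAffine W.left] [Flat W.hom]
    {Z : Scheme.{u}} [Z.IsQuasiAffine] (f₁ : (W ⊗ sp A C₁).left ⟶ Z) (f₂ : (W ⊗ sp A C₂).left ⟶ Z)
    (hf : (W ◁ spMap u₁).left ≫ f₁ = (W ◁ spMap u₂).left ≫ f₂) :
    ∃! f : W.left ⟶ Z, (fst W (sp A C₁)).left ≫ f = f₁ ∧ (fst W (sp A C₂)).left ≫ f = f₂ := by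
  obtain ⟨φ, hφ⟩ := Spec.map_surjective (W.left.isoSpec.inv ≫ W.hom)
  letI : Algebra A Γ(W.left, ⊤) := φ.hom.toAlgebra
  haveI : Module.Flat A Γ(W.left, ⊤) := by
    have h1 : Flat (Spec.map φ) := by rw [hφ]; exact MorphismProperty.comp_mem _ _ _ inferInstance ‹Flat W.hom›
    exact (HasRingHomProperty.Spec_iff (P := @Flat)).mp h1
  let e : sp A Γ(W.left, ⊤) ≅ W := Over.isoMk W.left.isoSpec.symm hφ.symm
  obtain ⟨f, ⟨h1, h2⟩, huniq⟩ := existsUnique_hom_affine h Γ(W.left, ⊤) ((e.hom ▷ sp A C₁).left ≫ f₁)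
    ((e.hom ▷ sp A C₂).left ≫ f₂) (by
      rw [← Category.assoc, ← Over.comp_left, whisker_exchange, Over.comp_left, Category.assoc, hf, ← Category.assoc,
        ← Over.comp_left, ← whisker_exchange, Over.comp_left, Category.assoc])
  refine ⟨e.inv.left ≫ f, ⟨?_, ?_⟩, fun f' hf' => ?_⟩
  · rw [← Category.assoc, ← Over.comp_left, ← whiskerRight_fst e.inv, Over.comp_left, Category.assoc, h1,
      ← Category.assoc, ← Over.comp_left, inv_hom_whiskerRight, Over.id_left, Category.id_comp]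
  · rw [← Category.assoc, ← Over.comp_left, ← whiskerRight_fst e.inv, Over.comp_left, Category.assoc, h2,
      ← Category.assoc, ← Over.comp_left, inv_hom_whiskerRight, Over.id_left, Category.id_comp]
  · have := huniq (e.hom.left ≫ f') ⟨by rw [← hf'.1, ← Category.assoc, ← Category.assoc, ← Over.comp_left, ← Over.comp_left, whiskerRight_fst],
      by rw [← hf'.2, ← Category.assoc, ← Category.assoc, ← Over.comp_left, ← Over.comp_left, whiskerRight_fst]⟩
    rw [← this, ← Category.assoc, ← Over.comp_left, Iso.inv_hom_id, Over.id_left, Category.id_comp]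

end TorsGlueLib
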