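import Groth.Agent.TorsGlueLib.Pair
import Groth.Agent.S10727
import Groth.Agent.GlueAlgLib.Basic

/-!
# Glueing two trivial affine objects along an automorphism over `R'_f`
-/

set_option autoImplicit false
set_option linter.style.haveILetI false
set_option backward.isDefEq.respectTransparency false
universe u

open CategoryTheory CategoryTheory.Limits AlgebraicGeometry TensorProduct
open MonoidalCategory CartesianMonoidalCategory

noncomputable section

namespace TorsGlueLib

variable {R : Type u} [CommRing R]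

theorem spMap_comp {B B' B'' : Type u} [CommRing B] [CommRing B'] [CommRing B''] [Algebra R B] [Algebra R B']
    [Algebra R B''] (v : B →ₐ[R] B') (w : B' →ₐ[R] B'') : spMap w ≫ spMap v = spMap (w.comp v) := by
  refine Over.OverMorphism.ext ?_
  change Spec.map _ ≫ Spec.map _ = Spec.map _
  rw [← Spec.map_comp]
  exact congrArg Spec.map (CommRingCat.hom_ext rfl)

theorem spMap_id (B : Type u) [CommRing B] [Algebra R B] : spMap (AlgHom.id R B) = 𝟙 (sp R B) := by
  refine Over.OverMorphism.ext ?_
  exact Spec.map_id (CommRingCat.of B)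

theorem spMap_injective {B B' : Type u} [CommRing B] [CommRing B'] [Algebra R B] [Algebra R B']
    {v w : B →ₐ[R] B'} (h : spMap v = spMap w) : v = w :=
  AlgHom.ext fun b => congrArg (fun k => k.hom b) (Spec.map_injective (congrArg (fun k => k.left) h))

theorem exists_spMap {B B' : Type u} [CommRing B] [CommRing B'] [Algebra R B] [Algebra R B']
    (h : sp R B' ⟶ sp R B) : ∃ v : B →ₐ[R] B', spMap v = h := by
  obtain ⟨k, hk⟩ := Spec.map_surjective h.left
  have hk' : CommRingCat.ofHom (algebraMap R B) ≫ k = CommRingCat.ofHom (algebraMap R B') :=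
    Spec.map_injective (by rw [Spec.map_comp, hk]; exact Over.w h)
  refine ⟨{ k.hom with commutes' := fun r => congrArg (fun l => l.hom r) hk' }, Over.OverMorphism.ext ?_⟩
  rw [← hk]
  exact congrArg Spec.map (CommRingCat.hom_ext rfl)

def spIso {B B' : Type u} [CommRing B] [CommRing B'] [Algebra R B] [Algebra R B'] (e : B ≃ₐ[R] B') :
    sp R B' ≅ sp R B where
  hom := spMap e.toAlgHom
  inv := spMap e.symm.toAlgHom
  hom_inv_id := by rw [spMap_comp, ← spMap_id B']; congr 1; exact AlgHom.ext fun b => e.apply_symm_apply b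
  inv_hom_id := by rw [spMap_comp, ← spMap_id B]; congr 1; exact AlgHom.ext fun b => e.symm_apply_apply b

variable (O C : Type u) [CommRing O] [CommRing C] [Algebra R O] [Algebra R C]

/-- `Spec O × Spec C = Spec (C ⊗ O)`. -/
def spT : sp R O ⊗ sp R C ≅ sp R (C ⊗[R] O) :=
  (⟨lift (snd _ _) (fst _ _), lift (snd _ _) (fst _ _), by ext <;> simp, by ext <;> simp⟩ :
      sp R O ⊗ sp R C ≅ sp R C ⊗ sp R O) ≪≫
    Over.isoMk (spTensor C O) (by
      change (pullbackSpecIso R C O).hom ≫ Spec.map (CommRingCat.ofHom (algebraMap R (C ⊗[R] O))) = _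
      rw [pullbackSpecIso_hom_base]
      rfl)

theorem spT_fst : (spT (R := R) O C).hom ≫ spMap (Algebra.TensorProduct.includeRight : O →ₐ[R] C ⊗[R] O) = fst _ _ := by
  have h : (Over.isoMk (spTensor (A := R) C O) (by
      change (pullbackSpecIso R C O).hom ≫ Spec.map (CommRingCat.ofHom (algebraMap R (C ⊗[R] O))) = _
      rw [pullbackSpecIso_hom_base]
      rfl) : sp R C ⊗ sp R O ≅ sp R (C ⊗[R] O)).hom ≫ spMap (Algebra.TensorProduct.includeRight) = snd _ _ :=
    Over.OverMorphism.ext (pullbackSpecIso_hom_snd R C O)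
  simp [spT, h]

theorem spT_snd : (spT (R := R) O C).hom ≫ spMap (Algebra.TensorProduct.includeLeft : C →ₐ[R] C ⊗[R] O) = snd _ _ := by
  have h : (Over.isoMk (spTensor (A := R) C O) (by
      change (pullbackSpecIso R C O).hom ≫ Spec.map (CommRingCat.ofHom (algebraMap R (C ⊗[R] O))) = _
      rw [pullbackSpecIso_hom_base]
      rfl) : sp R C ⊗ sp R O ≅ sp R (C ⊗[R] O)).hom ≫ spMap (Algebra.TensorProduct.includeLeft) = fst _ _ :=
    Over.OverMorphism.ext (pullbackSpecIso_hom_fst R C O)
  simp [spT, h]

theorem ext_spT {W : Over (Spec (CommRingCat.of R))} {a b : W ⟶ sp R (C ⊗[R] O)}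
    (h1 : a ≫ spMap (Algebra.TensorProduct.includeRight : O →ₐ[R] C ⊗[R] O) =
      b ≫ spMap (Algebra.TensorProduct.includeRight : O →ₐ[R] C ⊗[R] O))
    (h2 : a ≫ spMap (Algebra.TensorProduct.includeLeft : C →ₐ[R] C ⊗[R] O) =
      b ≫ spMap (Algebra.TensorProduct.includeLeft : C →ₐ[R] C ⊗[R] O)) : a = b := by
  rw [← cancel_mono (spT (R := R) O C).inv]
  apply CartesianMonoidalCategory.hom_ext
  · rw [← spT_fst]; simpa using h1
  · rw [← spT_snd]; simpa using h2

theorem whiskerLeft_spT {C' : Type u} [CommRing C'] [Algebra R C'] (v : C →ₐ[R] C') :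
    (sp R O ◁ spMap v) ≫ (spT O C).hom =
      (spT O C').hom ≫ spMap (Algebra.TensorProduct.map v (AlgHom.id R O)) := by
  refine ext_spT O C ?_ ?_
  · rw [Category.assoc, Category.assoc, spT_fst, whiskerLeft_fst, spMap_comp,
      Algebra.TensorProduct.map_comp_includeRight, AlgHom.comp_id, spT_fst]
  · rw [Category.assoc, Category.assoc, spT_snd, whiskerLeft_snd, spMap_comp,
      Algebra.TensorProduct.map_comp_includeLeft, ← spMap_comp, ← Category.assoc, spT_snd]

/-- The map `Spec O × Spec C ⟶ Spec A` of a map `A → C ⊗ O`. -/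
def spPair {A : Type u} [CommRing A] [Algebra R A] (ε : A →ₐ[R] C ⊗[R] O) : sp R O ⊗ sp R C ⟶ sp R A :=
  (spT O C).hom ≫ spMap ε

theorem isIso_lift_spPair {A : Type u} [CommRing A] [Algebra R A] (ε : A →ₐ[R] C ⊗[R] O)
    (h : Function.Bijective (Algebra.TensorProduct.lift (Algebra.TensorProduct.includeLeft : C →ₐ[R] C ⊗[R] O) ε
      (fun _ _ => Commute.all _ _))) : IsIso (lift (spPair O C ε) (snd (sp R O) (sp R C))) := by
  let lam := Algebra.TensorProduct.lift (Algebra.TensorProduct.includeLeft : C →ₐ[R] C ⊗[R] O) ε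
    (fun _ _ => Commute.all _ _)
  have key : lift (spPair O C ε) (snd (sp R O) (sp R C)) =
      ((spT O C) ≪≫ spIso (AlgEquiv.ofBijective lam h) ≪≫ (spT A C).symm).hom := by
    rw [Iso.trans_hom, Iso.trans_hom, Iso.symm_hom, ← Category.assoc, Iso.eq_comp_inv]
    refine ext_spT A C ?_ ?_
    · simp only [Category.assoc]
      change _ = (spT O C).hom ≫ spMap lam ≫ _
      rw [spT_fst, lift_fst, spMap_comp, spPair]
      congr 2
      exact AlgHom.ext fun a => by simp [lam]
    · simp only [Category.assoc]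
      change _ = (spT O C).hom ≫ spMap lam ≫ _
      rw [spT_snd, lift_snd, spMap_comp, ← spT_snd O C]
      congr 2
      exact AlgHom.ext fun a => by simp [lam]
  rw [key]
  infer_instance

variable {R' : Type u} [CommRing R'] [Algebra R R'] {f : R}

theorem descent_affine (hp : EtGlue.IsGlueingPair R R' f) (O : Type u) [CommRing O] [Algebra R O]
    [Module.Flat R O] [Algebra.FinitePresentation R O]
    (θ : Localization.Away (algebraMap R R' f) ⊗[R] O ≃ₐ[R] Localization.Away (algebraMap R R' f) ⊗[R] O)
    (hθ : ∀ c, θ (c ⊗ₜ[R] (1 : O)) = c ⊗ₜ[R] (1 : O)) :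
    ∃ (A : Type u) (_ : CommRing A) (_ : Algebra R A) (_ : Module.Flat R A) (_ : Algebra.FinitePresentation R A)
      (ε₁ : A →ₐ[R] Localization.Away f ⊗[R] O) (ε₂ : A →ₐ[R] R' ⊗[R] O),
      Function.Bijective (Algebra.TensorProduct.lift
        (Algebra.TensorProduct.includeLeft : Localization.Away f →ₐ[R] Localization.Away f ⊗[R] O) ε₁
        (fun _ _ => Commute.all _ _)) ∧
      Function.Bijective (Algebra.TensorProduct.lift
        (Algebra.TensorProduct.includeLeft : R' →ₐ[R] R' ⊗[R] O) ε₂ (fun _ _ => Commute.all _ _)) ∧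
      θ.toAlgHom.comp ((Algebra.TensorProduct.map (uB R R' f) (AlgHom.id R O)).comp ε₂) =
        (Algebra.TensorProduct.map (uA R R' f) (AlgHom.id R O)).comp ε₁ := by
  let L₃ := Localization.Away (algebraMap R R' f) ⊗[R] O
  let A₁ := Localization.Away f ⊗[R] O
  let A' := R' ⊗[R] O
  let ν₁ : A₁ →ₐ[R] L₃ := Algebra.TensorProduct.map (uA R R' f) (AlgHom.id R O)
  let ν₂ : A' →ₐ[R] L₃ := Algebra.TensorProduct.map (uB R R' f) (AlgHom.id R O)
  -- the two identifications
  haveI : IsLocalization.Away (algebraMap R A' f) (A' ⊗[R'] Localization.Away (algebraMap R R' f)) := by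
    rw [IsScalarTower.algebraMap_apply R R' A']
    infer_instance
  let κ₂ : Localization.Away (algebraMap R A' f) ≃ₐ[R] L₃ :=
    ((IsLocalization.algEquiv (Submonoid.powers (algebraMap R A' f)) (Localization.Away (algebraMap R A' f))
      (A' ⊗[R'] Localization.Away (algebraMap R R' f))).restrictScalars R).trans
    (((Algebra.TensorProduct.comm R' A' (Localization.Away (algebraMap R R' f))).restrictScalars R).trans
      ((Algebra.TensorProduct.cancelBaseChange R R' R' (Localization.Away (algebraMap R R' f)) O).restrictScalars R))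
  have hκ₂ : ∀ x : A', κ₂ (algebraMap A' (Localization.Away (algebraMap R A' f)) x) = ν₂ x := by
    intro x
    have h1 : κ₂ (algebraMap A' (Localization.Away (algebraMap R A' f)) x) =
        Algebra.TensorProduct.cancelBaseChange R R' R' (Localization.Away (algebraMap R R' f)) O
          ((1 : Localization.Away (algebraMap R R' f)) ⊗ₜ[R'] x) := by
      simp only [κ₂, AlgEquiv.trans_apply, AlgEquiv.restrictScalars_apply, AlgEquiv.commutes]
      rfl
    rw [h1]
    clear h1
    induction x using TensorProduct.induction_on with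
    | zero => simp
    | tmul s o =>
      rw [Algebra.TensorProduct.cancelBaseChange_tmul, Algebra.smul_def, mul_one]
      rfl
    | add x y hx hy => rw [TensorProduct.tmul_add, map_add, map_add, hx, hy]
  let w := (IsLocalization.Away.tensorEquiv (r := f) (A := Localization.Away f) R').restrictScalars R
  let κ₁ : R' ⊗[R] A₁ ≃ₐ[R] L₃ :=
    (Algebra.TensorProduct.assoc R R R R' (Localization.Away f) O).symm.trans
      (Algebra.TensorProduct.congr w AlgEquiv.refl)
  have hw1 : ∀ s : R', w (s ⊗ₜ[R] 1) = uB R R' f s := fun s =>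
    (IsLocalization.Away.tensorEquiv (r := f) (A := Localization.Away f) R').commutes s
  have hw2 : ∀ c, w ((1 : R') ⊗ₜ[R] c) = uA R R' f c := by
    haveI : Subsingleton (Localization.Away f →ₐ[R] Localization.Away (algebraMap R R' f)) :=
      IsLocalization.algHom_subsingleton (Submonoid.powers f)
    exact fun c => DFunLike.congr_fun (Subsingleton.elim
      (w.toAlgHom.comp Algebra.TensorProduct.includeRight) (uA R R' f)) c
  have hκ₁ : ∀ a : A₁, κ₁ ((1 : R') ⊗ₜ[R] a) = ν₁ a := by
    intro a
    induction a using TensorProduct.induction_on with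
    | zero => simp
    | tmul c o =>
      change w ((1 : R') ⊗ₜ[R] c) ⊗ₜ[R] o = uA R R' f c ⊗ₜ[R] o
      rw [hw2]
    | add x y hx hy => rw [TensorProduct.tmul_add, map_add, map_add, hx, hy]
  let φ₀ : Localization.Away (algebraMap R A' f) ≃ₐ[R] R' ⊗[R] A₁ := (κ₂.trans θ).trans κ₁.symm
  have hs : ∀ s : R', φ₀ (algebraMap R' _ s) = s ⊗ₜ[R] (1 : A₁) := by
    intro s
    have h1 : κ₁ (s ⊗ₜ[R] (1 : A₁)) = uB R R' f s ⊗ₜ[R] (1 : O) := by
      change w (s ⊗ₜ[R] (1 : Localization.Away f)) ⊗ₜ[R] (1 : O) = _
      rw [hw1]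
    simp only [φ₀, AlgEquiv.trans_apply, AlgEquiv.symm_apply_eq,
      IsScalarTower.algebraMap_apply R' A' (Localization.Away (algebraMap R A' f)), hκ₂]
    rw [h1]
    exact hθ _
  let φ : Localization.Away (algebraMap R A' f) ≃ₐ[R'] R' ⊗[R] A₁ :=
    AlgEquiv.ofRingEquiv (f := φ₀.toRingEquiv) hs
  have hu : IsUnit (algebraMap R A₁ f) := by
    have := (IsLocalization.Away.algebraMap_isUnit (S := Localization.Away f) f).map
      (Algebra.TensorProduct.includeLeft : Localization.Away f →ₐ[R] A₁)
    rwa [AlgHom.commutes] at this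
  obtain ⟨A, _, _, hA, e₁, e', hAe⟩ := Groth.Agent.S10727.result R R' f hp A₁ hu A' φ
  let ε₂ : A →ₐ[R] A' := (e'.restrictScalars R).toAlgHom.comp Algebra.TensorProduct.includeRight
  let ε₁ : A →ₐ[R] A₁ := e₁.toAlgHom.comp (IsScalarTower.toAlgHom R A _)
  have hl2 : Function.Bijective (Algebra.TensorProduct.lift
      (Algebra.TensorProduct.includeLeft : R' →ₐ[R] A') ε₂ (fun _ _ => Commute.all _ _)) := by
    convert e'.bijective using 1
    funext x
    induction x using TensorProduct.induction_on with
    | zero => simp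
    | add x y hx hy => rw [map_add, map_add, hx, hy]
    | tmul s a =>
      rw [Algebra.TensorProduct.lift_tmul]
      have h3 : s ⊗ₜ[R] a = algebraMap R' (R' ⊗[R] A) s * ((1 : R') ⊗ₜ[R] a) := by simp
      rw [h3, map_mul, e'.commutes]
      rfl
  haveI : IsLocalization.Away (algebraMap R A f) (A ⊗[R] Localization.Away f) := inferInstance
  let l : Localization.Away f ⊗[R] A ≃ₐ[R] A₁ :=
    ((Algebra.TensorProduct.comm R (Localization.Away f) A).trans
      ((IsLocalization.algEquiv (Submonoid.powers (algebraMap R A f)) (A ⊗[R] Localization.Away f)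
        (Localization.Away (algebraMap R A f))).restrictScalars R)).trans e₁
  have hl1 : Function.Bijective (Algebra.TensorProduct.lift
      (Algebra.TensorProduct.includeLeft : Localization.Away f →ₐ[R] A₁) ε₁ (fun _ _ => Commute.all _ _)) := by
    suffices Algebra.TensorProduct.lift (Algebra.TensorProduct.includeLeft : Localization.Away f →ₐ[R] A₁) ε₁
        (fun _ _ => Commute.all _ _) = l.toAlgHom by rw [this]; exact l.bijective
    haveI : Subsingleton (Localization.Away f →ₐ[R] A₁) := IsLocalization.algHom_subsingleton (Submonoid.powers f)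
    refine Algebra.TensorProduct.ext (Subsingleton.elim _ _) (AlgHom.ext fun a => ?_)
    have h3 : (IsLocalization.algEquiv (Submonoid.powers (algebraMap R A f)) (A ⊗[R] Localization.Away f)
        (Localization.Away (algebraMap R A f))) (a ⊗ₜ[R] 1) = algebraMap A _ a :=
      AlgEquiv.commutes _ a
    rw [Algebra.TensorProduct.lift_comp_includeRight]
    change e₁ (algebraMap A _ a) = e₁ _
    exact congrArg e₁ h3.symm
  let E₂ : R' ⊗[R] A ≃ₐ[R'] A' := e'
  let E₁ : Localization.Away f ⊗[R] A ≃ₐ[Localization.Away f] A₁ :=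
    AlgEquiv.ofBijective (Algebra.TensorProduct.lift
      (Algebra.TensorProduct.includeLeft (S := Localization.Away f) : Localization.Away f →ₐ[Localization.Away f] A₁)
      ε₁ (fun _ _ => Commute.all _ _)) (by
        convert hl1 using 1
        funext x
        induction x using TensorProduct.induction_on with
        | zero => simp
        | add x y hx hy => rw [map_add, map_add, hx, hy]
        | tmul c a => rw [Algebra.TensorProduct.lift_tmul, Algebra.TensorProduct.lift_tmul]; rfl)
  haveI : Module.Flat R' (R' ⊗[R] A) := Module.Flat.of_linearEquiv E₂.toLinearEquiv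
  haveI : Module.Flat (Localization.Away f) (Localization.Away f ⊗[R] A) :=
    Module.Flat.of_linearEquiv E₁.toLinearEquiv
  haveI : Algebra.FinitePresentation R' (R' ⊗[R] A) := Algebra.FinitePresentation.equiv E₂.symm
  haveI : Algebra.FinitePresentation (Localization.Away f) (Localization.Away f ⊗[R] A) :=
    Algebra.FinitePresentation.equiv E₁.symm
  haveI := Groth.Agent.GlueFlatLib.flat_of_glueing hp A
  refine ⟨A, inferInstance, inferInstance, inferInstance, Groth.Agent.GlueAlgLib.finitePresentation_of_glueing hp A,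
    ε₁, ε₂, hl1, hl2, AlgHom.ext fun a => ?_⟩
  have := congrArg κ₁ (hAe a)
  rw [hκ₁] at this
  change κ₁ (φ₀ _) = _ at this
  simp only [φ₀, AlgEquiv.trans_apply, hκ₂] at this
  rw [κ₁.apply_symm_apply] at this
  exact this

end TorsGlueLib
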