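import Groth.Agent.TorsGlueLib.Affine
import Groth.Agent.S2004
import Groth.Agent.S7065
import Groth.Prelude.Def_EtGlue
import Mathlib.RingTheory.AdicCompletion.Completeness
import Mathlib.RingTheory.AdicCompletion.AsTensorProduct
import Mathlib.RingTheory.Noetherian.Orzech

/-!
# The glueing pair of a Noetherian ring and its `f`-adic completion
-/

set_option autoImplicit false
set_option linter.style.haveILetI false
universe u

open TensorProduct

namespace TorsGlueLib

variable (R : Type u) [CommRing R]

theorem quotPowBijective_completion (f : R) :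
    EtGlue.QuotPowBijective R (AdicCompletion (Ideal.span {f}) R) f := by
  intro n _
  have hfg : (Ideal.span {f}).FG := ⟨{f}, by simp⟩
  have hker : ∀ x : AdicCompletion (Ideal.span {f}) R,
      x ∈ (Ideal.span {f ^ n}).map (algebraMap R (AdicCompletion (Ideal.span {f}) R)) ↔
        AdicCompletion.evalₐ (Ideal.span {f}) n x = 0 := by
    intro x
    rw [← Ideal.span_singleton_pow, ← Submodule.restrictScalars_mem R, ← Ideal.smul_top_eq_map,
      AdicCompletion.pow_smul_top_eq_ker_eval hfg, LinearMap.mem_ker]
    constructor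
    · intro h
      rw [← AdicCompletion.factor_eval_eq_evalₐ (Ideal.span {f}) x (le_of_eq (Ideal.mul_top _)), h, map_zero]
    · intro h
      rw [← AdicCompletion.factor_evalₐ_eq_eval (Ideal.span {f}) x (le_of_eq (Ideal.mul_top _).symm), h, map_zero]
  constructor
  · rw [injective_iff_map_eq_zero]
    intro a ha
    obtain ⟨a, rfl⟩ := Ideal.Quotient.mk_surjective a
    rw [Ideal.quotientMap_mk, Ideal.Quotient.eq_zero_iff_mem, hker, AlgHom.commutes, Ideal.Quotient.algebraMap_eq,
      Ideal.Quotient.eq_zero_iff_mem, Ideal.span_singleton_pow] at ha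
    exact Ideal.Quotient.eq_zero_iff_mem.mpr ha
  · intro z
    obtain ⟨x, rfl⟩ := Ideal.Quotient.mk_surjective z
    obtain ⟨a, ha⟩ := Ideal.Quotient.mk_surjective (AdicCompletion.evalₐ (Ideal.span {f}) n x)
    refine ⟨Ideal.Quotient.mk _ a, ?_⟩
    rw [Ideal.quotientMap_mk, Ideal.Quotient.eq, hker, map_sub, AlgHom.commutes, Ideal.Quotient.algebraMap_eq, ha,
      sub_self]

variable {R} {R' : Type u} [CommRing R'] [Algebra R R'] {f : R}

/-- Modulo powers of `f` isomorphic and flat over a Noetherian ring gives a glueing pair. -/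
theorem isGlueingPair_of_flat [IsNoetherianRing R] [Module.Flat R R'] (hq : EtGlue.QuotPowBijective R R' f) :
    EtGlue.IsGlueingPair R R' f := by
  refine (Groth.Agent.S2004.result R R' f hq).mpr ⟨?_, ?_⟩
  · rintro x ⟨n, hn⟩ hx
    let T : ℕ →o Submodule R R :=
      ⟨fun k => LinearMap.ker (LinearMap.lsmul R R (f ^ k)), fun a b hab r hr => by
        obtain ⟨c, rfl⟩ := Nat.exists_eq_add_of_le hab
        simp only [LinearMap.mem_ker, LinearMap.lsmul_apply, smul_eq_mul] at hr ⊢
        rw [pow_add, mul_comm (f ^ a), mul_assoc, hr, mul_zero]⟩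
    obtain ⟨N, hN⟩ := monotone_stabilizes_iff_noetherian.mpr inferInstance T
    have hmem : Ideal.Quotient.mk (Ideal.span {f ^ (N + 1)}) x = 0 := by
      refine (hq (N + 1) N.succ_pos).1 ?_
      rw [Ideal.quotientMap_mk, hx, map_zero, map_zero]
    rw [Ideal.Quotient.eq_zero_iff_mem, Ideal.mem_span_singleton] at hmem
    obtain ⟨y, rfl⟩ := hmem
    have hy : y ∈ T (N + (n + 1)) := by
      change f ^ (N + (n + 1)) • y = 0
      rw [smul_eq_mul, show N + (n + 1) = n + (N + 1) by omega, pow_add, mul_assoc, hn]
    rw [← hN _ (Nat.le_add_right _ _)] at hy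
    have hy' : f ^ N * y = 0 := hy
    rw [pow_succ, mul_assoc, mul_left_comm, hy', mul_zero]
  · rintro x' ⟨n, hn⟩
    let m : R →ₗ[R] R := LinearMap.lsmul R R (f ^ n)
    have hex := Module.Flat.lTensor_exact R' (LinearMap.exact_subtype_ker_map m)
    have hx : m.lTensor R' ((TensorProduct.rid R R').symm x') = 0 := by
      refine (TensorProduct.rid R R').injective ?_
      simp [m, Algebra.smul_def, hn]
    obtain ⟨w, hw⟩ := (hex _).mp hx
    suffices ∃ x : R, f ^ n * x = 0 ∧
        TensorProduct.rid R R' ((LinearMap.ker m).subtype.lTensor R' w) = algebraMap R R' x by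
      obtain ⟨x, h1, h2⟩ := this
      rw [hw, LinearEquiv.apply_symm_apply] at h2
      exact ⟨x, ⟨n, h1⟩, h2.symm⟩
    clear hw
    induction w using TensorProduct.induction_on with
    | zero => exact ⟨0, by simp⟩
    | add w w' hw hw' =>
      obtain ⟨a, ha1, ha2⟩ := hw; obtain ⟨b, hb1, hb2⟩ := hw'
      exact ⟨a + b, by rw [mul_add, ha1, hb1, add_zero], by rw [map_add, map_add, ha2, hb2, map_add]⟩
    | tmul s k =>
      have hk : f ^ n * (k : R) = 0 := k.2
      rcases Nat.eq_zero_or_pos n with rfl | hpos
      · rw [pow_zero, one_mul] at hk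
        exact ⟨0, by simp, by simp [hk]⟩
      obtain ⟨z, hz⟩ := (hq n hpos).2 (Ideal.Quotient.mk _ s)
      obtain ⟨c, rfl⟩ := Ideal.Quotient.mk_surjective z
      rw [Ideal.quotientMap_mk, Ideal.Quotient.eq, Ideal.map_span, Set.image_singleton,
        Ideal.mem_span_singleton] at hz
      obtain ⟨t, ht⟩ := hz
      refine ⟨c * k, by rw [mul_left_comm, hk, mul_zero], ?_⟩
      have h0 : algebraMap R R' (f ^ n) * algebraMap R R' k = 0 := by rw [← map_mul, hk, map_zero]
      simp only [LinearMap.lTensor_tmul, Submodule.subtype_apply, TensorProduct.rid_tmul, Algebra.smul_def, map_mul]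
      linear_combination (-(algebraMap R R' k)) * ht - t * h0

theorem isGlueingPair_completion (R : Type u) [CommRing R] [IsNoetherianRing R] (f : R) :
    EtGlue.IsGlueingPair R (AdicCompletion (Ideal.span {f}) R) f :=
  isGlueingPair_of_flat (quotPowBijective_completion R f)

section Sq

variable (R R') (f)

noncomputable abbrev uA : Localization.Away f →ₐ[R] Localization.Away (algebraMap R R' f) :=
  { Localization.awayMap (algebraMap R R') f with
    commutes' := fun r => IsLocalization.map_eq _ r }

noncomputable abbrev uB : R' →ₐ[R] Localization.Away (algebraMap R R' f) :=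
  IsScalarTower.toAlgHom R R' (Localization.Away (algebraMap R R' f))

variable {R R' f}

theorem glueSq_of_pair (hp : EtGlue.IsGlueingPair R R' f) : GlueSq (uA R R' f) (uB R R' f) := by
  refine ⟨fun x y h => ?_, fun p => ?_⟩
  · obtain ⟨r, hr, hr'⟩ := hp.2.2.1 y x h.symm
    exact ⟨r, ⟨hr', hr⟩, fun a ha => hp.2.1 (Prod.ext (ha.2.trans hr.symm) (ha.1.trans hr'.symm))⟩
  · have h1 : Function.Bijective
        (Ideal.quotientMap (Ideal.map (algebraMap R R') (Ideal.span {f})) (algebraMap R R') Ideal.le_comap_map) := by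
      have := hp.1 1 one_pos
      have aux : ∀ g, g = f → Function.Bijective
          (Ideal.quotientMap (Ideal.map (algebraMap R R') (Ideal.span {g})) (algebraMap R R') Ideal.le_comap_map) →
          Function.Bijective
          (Ideal.quotientMap (Ideal.map (algebraMap R R') (Ideal.span {f})) (algebraMap R R') Ideal.le_comap_map) := by
        rintro g rfl h; exact h
      exact aux _ (pow_one f) this
    rcases Groth.Agent.S7065.result f h1 p with ⟨q, hq⟩ | ⟨q, hq⟩
    · exact Or.inr ⟨q, hq⟩
    · exact Or.inl ⟨q, hq⟩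

end Sq

end TorsGlueLib
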