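import Mathlib.RingTheory.Flat.Basic
import Mathlib.LinearAlgebra.TensorProduct.Prod
import Mathlib.RingTheory.Localization.Away.Basic
import Mathlib.RingTheory.Ideal.Quotient.Operations
import Mathlib.RingTheory.Localization.Away.Lemmas

/-!
# The equaliser property of a formal glueing datum, after a flat tensor product
-/

set_option autoImplicit false
set_option linter.style.haveILetI false
universe u

open TensorProduct

namespace TorsGlueLib

section

variable {A C₁ C₂ C₃ B : Type u} [CommRing A] [CommRing C₁] [CommRing C₂] [CommRing C₃] [CommRing B]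
  [Algebra A C₁] [Algebra A C₂] [Algebra A C₃] [Algebra A B] [Module.Flat A B]

/-- A square of algebras is an equaliser diagram: the bottom corner is the fibre product. -/
def IsEqualizerSq (u₁ : C₁ →ₐ[A] C₃) (u₂ : C₂ →ₐ[A] C₃) : Prop :=
  ∀ x y, u₁ x = u₂ y → ∃! a : A, algebraMap A C₁ a = x ∧ algebraMap A C₂ a = y

theorem IsEqualizerSq.tensor {u₁ : C₁ →ₐ[A] C₃} {u₂ : C₂ →ₐ[A] C₃} (h : IsEqualizerSq u₁ u₂)
    (x : B ⊗[A] C₁) (y : B ⊗[A] C₂)
    (hxy : Algebra.TensorProduct.map (AlgHom.id A B) u₁ x = Algebra.TensorProduct.map (AlgHom.id A B) u₂ y) :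
    ∃! b : B, b ⊗ₜ[A] (1 : C₁) = x ∧ b ⊗ₜ[A] (1 : C₂) = y := by
  let i : A →ₗ[A] C₁ × C₂ := (Algebra.linearMap A C₁).prod (Algebra.linearMap A C₂)
  let d : C₁ × C₂ →ₗ[A] C₃ := u₁.toLinearMap.comp (LinearMap.fst A C₁ C₂) -
    u₂.toLinearMap.comp (LinearMap.snd A C₁ C₂)
  have hi : Function.Injective i := by
    intro a a' e
    obtain ⟨a₀, -, huniq⟩ := h (algebraMap A C₁ a') (algebraMap A C₂ a') (by rw [u₁.commutes, u₂.commutes])
    exact (huniq a ⟨congrArg Prod.fst e, congrArg Prod.snd e⟩).trans (huniq a' ⟨rfl, rfl⟩).symm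
  have hex : Function.Exact i d := by
    intro p
    constructor
    · intro hp
      obtain ⟨a, ⟨h1, h2⟩, -⟩ := h p.1 p.2 (sub_eq_zero.mp hp)
      exact ⟨a, Prod.ext h1 h2⟩
    · rintro ⟨a, rfl⟩
      simp [i, d]
  have hiB := Module.Flat.lTensor_preserves_injective_linearMap (M := B) i hi
  have hexB := Module.Flat.lTensor_exact B hex
  have hsrc : ∀ w : B ⊗[A] A, TensorProduct.prodRight A A B C₁ C₂ (i.lTensor B w) =
      ((TensorProduct.rid A B w) ⊗ₜ[A] (1 : C₁), (TensorProduct.rid A B w) ⊗ₜ[A] (1 : C₂)) := by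
    intro w
    induction w using TensorProduct.induction_on with
    | zero =>
      simp only [map_zero, TensorProduct.zero_tmul]
      rfl
    | tmul b a => simp [i, TensorProduct.smul_tmul, Algebra.algebraMap_eq_smul_one]
    | add w w' hw hw' => simp [map_add, hw, hw', TensorProduct.add_tmul]
  have htgt : ∀ w : B ⊗[A] (C₁ × C₂), d.lTensor B w =
      Algebra.TensorProduct.map (AlgHom.id A B) u₁ (TensorProduct.prodRight A A B C₁ C₂ w).1 -
      Algebra.TensorProduct.map (AlgHom.id A B) u₂ (TensorProduct.prodRight A A B C₁ C₂ w).2 := by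
    intro w
    induction w using TensorProduct.induction_on with
    | zero => simp
    | tmul b c => simp [d, TensorProduct.tmul_sub]
    | add w w' hw hw' =>
      simp only [map_add, hw, hw', Prod.fst_add, Prod.snd_add]
      abel
  let w := (TensorProduct.prodRight A A B C₁ C₂).symm (x, y)
  have hw : TensorProduct.prodRight A A B C₁ C₂ w = (x, y) := LinearEquiv.apply_symm_apply _ _
  obtain ⟨b, hb⟩ := (hexB w).mp (by rw [htgt, hw, hxy, sub_self])
  refine ⟨TensorProduct.rid A B b, ?_, fun b' hb' => ?_⟩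
  · have := hsrc b
    rw [hb, hw] at this
    exact ⟨(congrArg Prod.fst this).symm, (congrArg Prod.snd this).symm⟩
  · have h1 : i.lTensor B ((TensorProduct.rid A B).symm b') = i.lTensor B b := by
      apply (TensorProduct.prodRight A A B C₁ C₂).injective
      rw [hsrc, hb, hw, LinearEquiv.apply_symm_apply, hb'.1, hb'.2]
    rw [← hiB h1, LinearEquiv.apply_symm_apply]

end

section

variable {A A' : Type u} [CommRing A] [CommRing A'] (φ : A →+* A') (t : A)

theorem algebraMap_eq_iff {x y : A} : algebraMap A (Localization.Away t) x = algebraMap A (Localization.Away t) y ↔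
    ∃ k : ℕ, t ^ k * x = t ^ k * y := by
  rw [IsLocalization.eq_iff_exists (Submonoid.powers t) (Localization.Away t)]
  constructor
  · rintro ⟨⟨_, k, rfl⟩, hk⟩; exact ⟨k, hk⟩
  · rintro ⟨k, hk⟩; exact ⟨⟨_, k, rfl⟩, hk⟩

/-- The glueing hypotheses give an equaliser. -/
theorem exists_unique_glue
    (hq : ∀ m : ℕ, Function.Bijective (Ideal.quotientMap (Ideal.map φ (Ideal.span {t} ^ m)) φ Ideal.le_comap_map))
    (htor : ∀ a' : A', (∃ m : ℕ, φ t ^ m * a' = 0) → ∃! a : A, (∃ m : ℕ, t ^ m * a = 0) ∧ φ a = a')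
    (x : Localization.Away t) (y : A')
    (h : Localization.awayMap φ t x = algebraMap A' (Localization.Away (φ t)) y) :
    ∃! a : A, algebraMap A (Localization.Away t) a = x ∧ φ a = y := by
  have hinj : ∀ a₁ a₂ : A, algebraMap A (Localization.Away t) a₁ = algebraMap A (Localization.Away t) a₂ →
      φ a₁ = φ a₂ → a₁ = a₂ := by
    intro a₁ a₂ h1 h2
    obtain ⟨k, hk⟩ := (algebraMap_eq_iff t).mp h1
    obtain ⟨z, -, hz⟩ := htor 0 ⟨0, by simp⟩
    have ha : a₁ - a₂ = z := hz _ ⟨⟨k, by rw [mul_sub, hk, sub_self]⟩, by rw [map_sub, h2, sub_self]⟩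
    have h0 : (0 : A) = z := hz _ ⟨⟨0, by simp⟩, map_zero φ⟩
    exact sub_eq_zero.mp (ha.trans h0.symm)
  obtain ⟨⟨a, s, hs⟩, hx⟩ := IsLocalization.surj (Submonoid.powers t) x
  obtain ⟨n, rfl⟩ := hs
  have h1 : algebraMap A' (Localization.Away (φ t)) (φ a) = algebraMap A' (Localization.Away (φ t)) (φ t ^ n * y) := by
    have h2 := congrArg (Localization.awayMap φ t) hx
    have h3 : ∀ c, Localization.awayMap φ t (algebraMap A (Localization.Away t) c) =
        algebraMap A' (Localization.Away (φ t)) (φ c) := fun c => IsLocalization.map_eq _ _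
    rw [map_mul, h3, h3, h] at h2
    rw [map_mul, mul_comm, ← h2, map_pow]
  obtain ⟨⟨_, k, rfl⟩, hk⟩ := (IsLocalization.eq_iff_exists (Submonoid.powers (φ t)) _).mp h1
  have hk' : φ (t ^ k * a) = φ t ^ (k + n) * y := by
    rw [map_mul, map_pow, pow_add, mul_assoc]; exact hk
  have hmem : t ^ k * a ∈ Ideal.span {t} ^ (k + n) := by
    rw [← Ideal.Quotient.eq_zero_iff_mem]
    refine (hq (k + n)).1 ?_
    rw [Ideal.quotientMap_mk, map_zero, Ideal.Quotient.eq_zero_iff_mem, hk', Ideal.map_pow, Ideal.map_span,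
      Set.image_singleton, Ideal.span_singleton_pow]
    exact Ideal.mem_span_singleton.mpr (Dvd.intro y rfl)
  rw [Ideal.span_singleton_pow, Ideal.mem_span_singleton] at hmem
  obtain ⟨c, hc⟩ := hmem
  obtain ⟨e, ⟨⟨m, hm⟩, he⟩, -⟩ := htor (φ c - y) ⟨k + n, by
    rw [mul_sub, ← hk', hc, map_mul, map_pow, sub_self]⟩
  refine ⟨c - e, ⟨?_, by rw [map_sub, he, sub_sub_cancel]⟩, fun a' ha' => ?_⟩
  · have he0 : algebraMap A (Localization.Away t) e = 0 := by
      rw [← map_zero (algebraMap A (Localization.Away t)), algebraMap_eq_iff]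
      exact ⟨m, by rw [hm, mul_zero]⟩
    rw [map_sub, he0, sub_zero]
    have hu : IsUnit (algebraMap A (Localization.Away t) t) := IsLocalization.Away.algebraMap_isUnit t
    refine (hu.pow (k + n)).mul_left_cancel ?_
    rw [← map_pow, ← map_mul, ← hc, map_mul, ← hx, pow_add, map_mul]
    ring
  · refine hinj _ _ ?_ ?_
    · have he0 : algebraMap A (Localization.Away t) e = 0 := by
        rw [← map_zero (algebraMap A (Localization.Away t)), algebraMap_eq_iff]
        exact ⟨m, by rw [hm, mul_zero]⟩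
      rw [map_sub, he0, sub_zero, ha'.1]
      have hu : IsUnit (algebraMap A (Localization.Away t) t) := IsLocalization.Away.algebraMap_isUnit t
      refine (hu.pow (k + n)).mul_left_cancel ?_
      rw [← map_pow, ← map_mul, ← hc, map_mul, ← hx, pow_add, map_mul]
      ring
    · rw [map_sub, he, sub_sub_cancel, ha'.2]

end

end TorsGlueLib
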